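import Groth.Agent.Lib.RG6.InjMod.Model

/-!
# A finitely presented module over polynomials descends to a finitely generated subring
-/

set_option autoImplicit false
set_option linter.style.haveILetI false
set_option linter.unusedSectionVars false

universe u

open TensorProduct

attribute [local instance] MvPolynomial.algebraMvPolynomial

namespace GrothLib.RG6.InjMod

variable {A : Type u} [CommRing A] {n : ℕ}
  (N : Type u) [AddCommGroup N] [Module (Poly n A) N] [Module.FinitePresentation (Poly n A) N]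

theorem exists_model (g : Poly n A) :
    ∃ (A0 : Subalgebra ℤ A) (_ : IsNoetherianRing A0) (N0 : Type u) (_ : AddCommGroup N0)
      (_ : Module (Poly n A0) N0) (_ : Module A0 N0) (_ : IsScalarTower A0 (Poly n A0) N0)
      (_ : Module.Finite (Poly n A0) N0) (g0 : Poly n A0),
      algebraMap (Poly n A0) (Poly n A) g0 = g ∧ Nonempty (Poly n A ⊗[Poly n A0] N0 ≃ₗ[Poly n A] N) := by
  classical
  obtain ⟨a, K, e, hK⟩ := Module.FinitePresentation.exists_fin (Poly n A) N
  obtain ⟨s, hs⟩ := hK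
  let G : Finset A := g.coeffs ∪ s.biUnion fun r => Finset.univ.biUnion fun i => (r i).coeffs
  let A0 : Subalgebra ℤ A := Algebra.adjoin ℤ (G : Set A)
  haveI : Algebra.FiniteType ℤ A0 := (Subalgebra.fg_iff_finiteType A0).1 ⟨G, rfl⟩
  haveI : IsNoetherianRing A0 := Algebra.FiniteType.isNoetherianRing ℤ A0
  have hlift : ∀ f : Poly n A, f.coeffs ⊆ G → ∃ f0 : Poly n A0, algebraMap (Poly n A0) (Poly n A) f0 = f := by
    intro f hf
    exact MvPolynomial.mem_range_map_iff_coeffs_subset.2 fun c hc =>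
      ⟨⟨c, Algebra.subset_adjoin (hf hc)⟩, rfl⟩
  obtain ⟨g0, hg0⟩ := hlift g Finset.subset_union_left
  have hliftv : ∀ r : s, ∃ r0 : Fin a → Poly n A0,
      (fun i => algebraMap (Poly n A0) (Poly n A) (r0 i)) = r.1 := fun r => by
    choose r0 hr0 using fun i => hlift (r.1 i) (fun c hc => Finset.mem_union_right _
      (Finset.mem_biUnion.2 ⟨r.1, r.2, Finset.mem_biUnion.2 ⟨i, Finset.mem_univ _, hc⟩⟩))
    exact ⟨r0, funext hr0⟩
  choose r0 hr0 using hliftv
  let P0 := Poly n A0
  let P := Poly n A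
  let K0 : Submodule P0 (Fin a → P0) := Submodule.span P0 (Set.range r0)
  let N0 := (Fin a → P0) ⧸ K0
  let cmap : (Fin a → P0) →ₗ[P0] (Fin a → P) := LinearMap.compLeft (Algebra.linearMap P0 P) (Fin a)
  let α : (Fin a → P0) →ₗ[P0] ((Fin a → P) ⧸ K) := (K.mkQ.restrictScalars P0) ∘ₗ cmap
  have hα : K0 ≤ LinearMap.ker α := Submodule.span_le.2 (by
    rintro _ ⟨r, rfl⟩
    show K.mkQ (cmap (r0 r)) = 0
    rw [Submodule.mkQ_apply, Submodule.Quotient.mk_eq_zero, ← hs]
    exact Submodule.subset_span (show cmap (r0 r) ∈ (s : Set (Fin a → P)) from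
      (show cmap (r0 r) = r.1 from hr0 r) ▸ r.2))
  let Φ : P ⊗[P0] N0 →ₗ[P] (Fin a → P) ⧸ K := LinearMap.liftBaseChange P (K0.liftQ α hα)
  let β : (Fin a → P) →ₗ[P] P ⊗[P0] N0 :=
    Fintype.linearCombination P fun i => (1 : P) ⊗ₜ[P0] K0.mkQ (Pi.single i 1)
  have hβ : ∀ v : Fin a → P0, β (cmap v) = (1 : P) ⊗ₜ[P0] K0.mkQ v := fun v => by
    conv_rhs => rw [pi_eq_sum_univ' v]
    rw [Fintype.linearCombination_apply, map_sum, TensorProduct.tmul_sum]
    refine Finset.sum_congr rfl fun i _ => ?_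
    rw [map_smul, TensorProduct.tmul_smul, TensorProduct.smul_tmul', TensorProduct.smul_tmul']
    congr 1
  have hβK : K ≤ LinearMap.ker β := by
    rw [← hs, Submodule.span_le]
    intro r hr
    rw [SetLike.mem_coe, LinearMap.mem_ker, ← show cmap (r0 ⟨r, hr⟩) = r from hr0 ⟨r, hr⟩, hβ,
      Submodule.mkQ_apply, (Submodule.Quotient.mk_eq_zero K0).2 (Submodule.subset_span ⟨⟨r, hr⟩, rfl⟩),
      TensorProduct.tmul_zero]
  let Ψ : (Fin a → P) ⧸ K →ₗ[P] P ⊗[P0] N0 := K.liftQ β hβK
  have h1 : ∀ x, Ψ (Φ x) = x := fun x => by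
    induction x using TensorProduct.induction_on with
    | zero => rw [map_zero, map_zero]
    | add x y hx hy => rw [map_add, map_add, hx, hy]
    | tmul c y =>
      obtain ⟨v, rfl⟩ := K0.mkQ_surjective y
      show Ψ (c • (K0.liftQ α hα (K0.mkQ v))) = _
      rw [map_smul, Submodule.mkQ_apply, Submodule.liftQ_apply]
      show c • β (cmap v) = _
      rw [hβ, TensorProduct.smul_tmul', smul_eq_mul, mul_one]
      rfl
  have h2 : ∀ x, Φ (Ψ x) = x := fun x => by
    obtain ⟨v, rfl⟩ := K.mkQ_surjective x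
    show Φ (β v) = K.mkQ v
    conv_rhs => rw [pi_eq_sum_univ' v]
    rw [Fintype.linearCombination_apply, map_sum, map_sum]
    refine Finset.sum_congr rfl fun i _ => ?_
    rw [map_smul, map_smul]
    congr 1
    show (1 : P) • α (Pi.single i 1) = _
    rw [one_smul]
    show K.mkQ (cmap (Pi.single i 1)) = _
    congr 1
    funext j
    show algebraMap P0 P ((Pi.single i 1 : Fin a → P0) j) = _
    rcases eq_or_ne j i with rfl | h
    · simp
    · simp [h]
  let E : Poly n A ⊗[Poly n A0] N0 ≃ₗ[Poly n A] (Fin a → Poly n A) ⧸ K :=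
    LinearEquiv.ofLinearMap Φ Ψ (LinearMap.ext h2) (LinearMap.ext h1)
  exact ⟨A0, inferInstance, N0, inferInstance, inferInstance, inferInstance, inferInstance, inferInstance, g0, hg0,
    ⟨E.trans e.symm⟩⟩

end GrothLib.RG6.InjMod
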