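import Groth.Agent.Lib.RG6.InjMod.ModelEquiv
import Groth.Agent.Lib.RG6.ContentBasic

/-!
# An element making the elements outside the prime regular on a fibre
-/

set_option autoImplicit false
set_option linter.style.haveILetI false
set_option linter.unusedSectionVars false
set_option maxHeartbeats 400000

universe u

open TensorProduct IsLocalRing

attribute [local instance] MvPolynomial.algebraMvPolynomial

namespace GrothLib.RG6.InjMod

variable {A : Type u} [CommRing A] {n : ℕ}
  (N : Type u) [AddCommGroup N] [Module (Poly n A) N] [Module A N] [IsScalarTower A (Poly n A) N]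
  (q : Ideal (Poly n A)) [q.IsPrime]

theorem exists_regularizer [Module.Finite (Poly n A) N] (K : Type u) [Field K] [Algebra A K] :
    ∃ g : Poly n A, g ∉ q ∧ ∀ t : Poly n A, t ∉ q → ∀ y : NC A n N K, t • y = 0 → ∃ k : ℕ, g ^ k • y = 0 := by
  classical
  let R := Poly n K
  let X := NC A n N K
  let μ := algebraMap (Poly n A) R
  have hfin := associatedPrimes.finite R X
  have hex : ∀ Q : Ideal R, ∃ gQ : Poly n A, gQ ∉ q ∧ (¬ Q.comap μ ≤ q → μ gQ ∈ Q) := fun Q => by
    by_cases h : Q.comap μ ≤ q
    · exact ⟨1, Ideal.IsPrime.one_notMem inferInstance, fun h' => absurd h h'⟩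
    · obtain ⟨x, hx, hxq⟩ := SetLike.not_le_iff_exists.1 h
      exact ⟨x, hxq, fun _ => hx⟩
  choose gQ hgq hgQ using hex
  refine ⟨∏ Q ∈ hfin.toFinset, gQ Q, fun h => ?_, fun t ht y hy => ?_⟩
  · obtain ⟨Q, -, hQ⟩ := Ideal.IsPrime.prod_mem_iff.1 h
    exact hgq Q hQ
  let g := ∏ Q ∈ hfin.toFinset, gQ Q
  by_contra! hne
  let annih : X → Ideal R := fun z => (⊥ : Submodule R X).colon {z}
  have hmem : ∀ (z : X) (r : R), r ∈ annih z ↔ r • z = 0 := fun z r => by
    simp only [annih, Submodule.mem_colon_singleton, Submodule.mem_bot]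
  let F : Set (Ideal R) := {J | ∃ z : X, J = annih z ∧ μ t • z = 0 ∧ ∀ k : ℕ, μ g ^ k • z ≠ 0}
  obtain ⟨J, ⟨z, rfl, htz, hgz⟩, hmax⟩ := set_has_maximal_iff_noetherian.2 (inferInstance : IsNoetherianRing R) F
    ⟨annih y, y, rfl, (algebraMap_smul R t y).trans hy, fun k => by
      rw [← map_pow, algebraMap_smul]
      exact hne k⟩
  have hJ : (annih z).IsPrime := by
    refine ⟨fun h => hgz 0 ?_, fun {a b} hab => ?_⟩
    · rw [pow_zero]
      exact (hmem z 1).1 (h ▸ Submodule.mem_top)
    · rw [hmem, mul_smul] at hab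
      by_cases hb : ∃ k : ℕ, μ g ^ k • (b • z) = 0
      · obtain ⟨k, hk⟩ := hb
        refine Or.inr ?_
        have h1 : annih z ≤ annih (μ g ^ k • z) := fun r hr => by
          rw [hmem] at hr ⊢
          rw [smul_comm, hr, smul_zero]
        have h2 : annih (μ g ^ k • z) ∈ F := ⟨_, rfl, by rw [smul_comm, htz, smul_zero], fun k' => by
          rw [← mul_smul, ← pow_add]; exact hgz _⟩
        have h3 : annih (μ g ^ k • z) ≤ annih z := by
          by_contra hh
          exact hmax _ h2 (lt_of_le_not_ge h1 hh)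
        refine h3 ?_
        rw [hmem, smul_comm]
        exact hk
      · simp only [not_exists] at hb
        refine Or.inl ?_
        have h1 : annih z ≤ annih (b • z) := fun r hr => by
          rw [hmem] at hr ⊢
          rw [smul_comm, hr, smul_zero]
        have h3 : annih (b • z) ≤ annih z := by
          by_contra hh
          exact hmax _ ⟨_, rfl, by rw [smul_comm, htz, smul_zero], hb⟩ (lt_of_le_not_ge h1 hh)
        exact h3 ((hmem _ _).2 hab)
  have hass : annih z ∈ associatedPrimes R X := isAssociatedPrime_iff.2 ⟨hJ, z, rfl⟩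
  have hle : ¬ (annih z).comap μ ≤ q := fun h => ht (h ((hmem _ _).2 htz))
  have hg : μ g ∈ annih z := by
    show μ (∏ Q ∈ hfin.toFinset, gQ Q) ∈ annih z
    rw [map_prod]
    exact Ideal.IsPrime.prod_mem_iff.2 ⟨_, hfin.mem_toFinset.2 hass, hgQ _ hle⟩
  exact hgz 1 (by rw [pow_one]; exact (hmem _ _).1 hg)

variable (V : Type u) [CommRing V] [IsDomain V] [ValuationRing V] [Algebra A V]

theorem exists_fieldEquiv (k C : Type u) [CommRing k] [Algebra A k] [CommRing C] [Algebra A C] [Algebra k C]
    [IsScalarTower A k C] :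
    ∃ E : C ⊗[k] NC A n N k ≃ₗ[C] NC A n N C, ∀ (r : Poly n A) (x : C ⊗[k] NC A n N k),
      E (AlgebraTensorModule.lTensor C C
        ((LinearMap.lsmul (Poly n k) (NC A n N k) (algebraMap (Poly n A) (Poly n k) r)).restrictScalars k) x) =
        r • E x := by
  haveI := isScalarTower_poly' A k C n
  let e0 : C ⊗[k] NC A n N k ≃ₗ[C] Poly n C ⊗[Poly n k] NC A n N k :=
    (Algebra.IsPushout.cancelBaseChange k C (Poly n k) (Poly n C) (NC A n N k)).symm
  let e1 := AlgebraTensorModule.cancelBaseChange (Poly n A) (Poly n k) (Poly n C) (Poly n C) N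
  refine ⟨e0.trans (e1.restrictScalars C), fun r x => ?_⟩
  have he : ∀ (c : C) (p : Poly n k) (m : N), (e0.trans (e1.restrictScalars C)) (c ⊗ₜ[k] (p ⊗ₜ[Poly n A] m)) =
      (p • algebraMap C (Poly n C) c) ⊗ₜ[Poly n A] m := fun c p m => by
    simp [e0, e1]
  induction x using TensorProduct.induction_on with
  | zero => simp
  | add a b ha hb => simp only [map_add, smul_add, ha, hb]
  | tmul c y =>
    induction y using TensorProduct.induction_on with
    | zero => simp
    | add a b ha hb => simp only [TensorProduct.tmul_add, map_add, smul_add, ha, hb]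
    | tmul p m =>
      show (e0.trans (e1.restrictScalars C)) (c ⊗ₜ[k] (algebraMap (Poly n A) (Poly n k) r • (p ⊗ₜ[Poly n A] m))) = _
      rw [algebraMap_smul, ← TensorProduct.tmul_smul, he]
      refine Eq.trans ?_ (congrArg (r • ·) (he c p m)).symm
      rw [TensorProduct.tmul_smul]

/-- The regularity passes to the closed fibre of a valuation ring with the same centre. -/
theorem exists_pow_smul_mem (p : Ideal A) [p.IsPrime] (hp : (maximalIdeal V).comap (algebraMap A V) = p)
    {g t : Poly n A} (hreg : ∀ y : NC A n N p.ResidueField, t • y = 0 → ∃ k : ℕ, g ^ k • y = 0)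
    (Y : NC A n N V) (hY : t • Y ∈ maximalIdeal V • (⊤ : Submodule V (NC A n N V))) :
    ∃ k : ℕ, g ^ k • Y ∈ maximalIdeal V • (⊤ : Submodule V (NC A n N V)) := by
  classical
  let κV := ResidueField V
  let κ := p.ResidueField
  have hker : p = RingHom.ker (algebraMap A κV) := by
    rw [← hp]
    ext a
    rw [RingHom.mem_ker, IsScalarTower.algebraMap_apply A V κV, Ideal.mem_comap]
    exact (residue_eq_zero_iff _).symm
  let i : κ →+* κV := ((Ideal.algEquivResidueFieldOfField (⊥ : Ideal κV)).symm :
    (⊥ : Ideal κV).ResidueField →+* κV).comp (Ideal.ResidueField.map p ⊥ (algebraMap A κV) hker)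
  letI : Algebra κ κV := i.toAlgebra
  haveI : IsScalarTower A κ κV := IsScalarTower.of_algebraMap_eq fun a => by
    show algebraMap A κV a = (Ideal.algEquivResidueFieldOfField (⊥ : Ideal κV)).symm
      (Ideal.ResidueField.map p ⊥ (algebraMap A κV) hker _)
    rw [Ideal.ResidueField.map_algebraMap]
    exact ((Ideal.algEquivResidueFieldOfField (⊥ : Ideal κV)).symm_apply_apply _).symm
  let φ := IsScalarTower.toAlgHom A V κV
  -- the kernel of the reduction
  let m' : Poly n V →ₗ[Poly n A] Poly n κV :=
    { toFun := MvPolynomial.map φ.toRingHom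
      map_add' := map_add _
      map_smul' := fun r x => by
        rw [RingHom.id_apply, Algebra.smul_def, Algebra.smul_def, map_mul]
        congr 1
        show MvPolynomial.map φ.toRingHom (MvPolynomial.map (algebraMap A V) r) = MvPolynomial.map (algebraMap A κV) r
        rw [MvPolynomial.map_map]
        rfl }
  have hm'surj : Function.Surjective m' := MvPolynomial.map_surjective _ residue_surjective
  have hkermap : ∀ W : NC A n N V, mapN N φ W = 0 → W ∈ maximalIdeal V • (⊤ : Submodule V (NC A n N V)) := by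
    intro W hW
    obtain ⟨W', rfl⟩ := ((rTensor_exact N (LinearMap.exact_subtype_ker_map m') hm'surj) W).1 hW
    clear hW
    induction W' using TensorProduct.induction_on with
    | zero => simp
    | add a b ha hb => rw [map_add]; exact add_mem ha hb
    | tmul x y =>
      obtain ⟨x, hx⟩ := x
      have hx' : x ∈ (maximalIdeal V).map (MvPolynomial.C (σ := Fin n)) := by
        rw [MvPolynomial.mem_map_C_iff]
        intro d
        have h1 : MvPolynomial.coeff d (MvPolynomial.map φ.toRingHom x) = 0 := by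
          rw [show MvPolynomial.map φ.toRingHom x = 0 from hx]; simp
        rw [MvPolynomial.coeff_map] at h1
        exact (residue_eq_zero_iff _).1 h1
      obtain ⟨c, hc, x', rfl⟩ : ∃ c ∈ maximalIdeal V, ∃ x', x = c • x' := by
        refine exists_mem_smul (A := V) (X := Poly n V) ?_
        rw [Ideal.smul_top_eq_map]
        exact hx'
      show (c • x') ⊗ₜ[Poly n A] y ∈ _
      rw [← TensorProduct.smul_tmul']
      exact Submodule.smul_mem_smul hc trivial
  have htY : t • mapN N φ Y = 0 := by
    obtain ⟨c, hc, W, hW⟩ := exists_mem_smul hY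
    rw [← LinearMap.map_smul, hW, mapN_smul']
    have h0 : φ c = 0 := (residue_eq_zero_iff c).2 hc
    rw [h0]
    exact zero_smul κV (mapN N φ W)
  obtain ⟨E, hE⟩ := exists_fieldEquiv (A := A) (n := n) N κ κV
  obtain ⟨x, hx⟩ := E.surjective (mapN N φ Y)
  let mt : NC A n N κ →ₗ[κ] NC A n N κ :=
    (LinearMap.lsmul (Poly n κ) (NC A n N κ) (algebraMap (Poly n A) (Poly n κ) t)).restrictScalars κ
  have h1 : mt.lTensor κV x = 0 := by
    apply E.injective
    rw [map_zero, ← htY, ← hx]
    exact hE t x
  have hex : Function.Exact ((LinearMap.ker mt).subtype.lTensor κV) (mt.lTensor κV) :=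
    Module.Flat.lTensor_exact (R := κ) κV (N := LinearMap.ker mt) (N' := NC A n N κ) (N'' := NC A n N κ) (LinearMap.exact_subtype_ker_map mt)
  obtain ⟨x', rfl⟩ := (hex x).1 h1
  have hpow : ∀ x' : κV ⊗[κ] LinearMap.ker mt, ∃ k : ℕ, g ^ k • E ((LinearMap.ker mt).subtype.lTensor κV x') = 0 := by
    intro x'
    induction x' using TensorProduct.induction_on with
    | zero => exact ⟨0, by simp⟩
    | add a b ha hb =>
      obtain ⟨k, hk⟩ := ha
      obtain ⟨l, hl⟩ := hb
      refine ⟨k + l, ?_⟩
      rw [map_add, map_add, smul_add, pow_add]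
      rw [show (g ^ k * g ^ l) • E ((LinearMap.ker mt).subtype.lTensor κV b) = g ^ k • (g ^ l • E _) from mul_smul _ _ _,
        hl, smul_zero, mul_comm, mul_smul, hk, smul_zero, add_zero]
    | tmul c y =>
      obtain ⟨k, hk⟩ := hreg y.1 (by rw [← algebraMap_smul (Poly n κ) t y.1]; exact y.2)
      refine ⟨k, ?_⟩
      have h2 := hE (g ^ k) (c ⊗ₜ[κ] y.1)
      rw [LinearMap.lTensor_tmul]
      refine h2.symm.trans ?_
      show E (c ⊗ₜ[κ] (algebraMap (Poly n A) (Poly n κ) (g ^ k) • y.1)) = 0
      rw [algebraMap_smul, hk, TensorProduct.tmul_zero, map_zero]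
  obtain ⟨k, hk⟩ := hpow x'
  refine ⟨k, hkermap _ ?_⟩
  rw [LinearMap.map_smul, ← hx]
  exact hk

end GrothLib.RG6.InjMod
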