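import Groth.Agent.Lib.RG6.InjMod.MaxBad
import Groth.Agent.Lib.RG6.InjMod.Regularize
import Groth.Agent.Lib.RG6.InjMod.Descend

/-!
# A union of a chain of bad primes is bad
-/

set_option autoImplicit false
set_option linter.style.haveILetI false
set_option linter.unusedSectionVars false
set_option maxHeartbeats 800000

universe u

open TensorProduct IsLocalRing

attribute [local instance] MvPolynomial.algebraMvPolynomial

namespace GrothLib.RG6.InjMod

/-- Contents in a base change from a field, up to the kernel of an operator. -/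
theorem exists_content_baseChange {k V : Type u} [Field k] [CommRing V] [IsDomain V] [ValuationRing V] [Algebra k V]
    {W : Type u} [AddCommGroup W] [Module k W] (G : W →ₗ[k] W) (x : V ⊗[k] W)
    (hx : ∀ j : ℕ, (G ^ j).baseChange V x ≠ 0) :
    ∃ b : V, b ≠ 0 ∧ ∃ (y : V ⊗[k] W) (j : ℕ), (G ^ j).baseChange V x = b • (G ^ j).baseChange V y ∧
      ∀ i : ℕ, (G ^ i).baseChange V y ∉ maximalIdeal V • (⊤ : Submodule V (V ⊗[k] W)) := by
  classical
  let Γ : Submodule k W := ⨆ j : ℕ, LinearMap.ker (G ^ j)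
  have hdir : Directed (· ≤ ·) fun j : ℕ => LinearMap.ker (G ^ j) := fun a b =>
    ⟨a + b, fun w hw => by
      rw [LinearMap.mem_ker] at hw ⊢
      rw [add_comm, pow_add, Module.End.mul_apply, hw, map_zero], fun w hw => by
      rw [LinearMap.mem_ker] at hw ⊢
      rw [pow_add, Module.End.mul_apply, hw, map_zero]⟩
  have hΓ : ∀ w, w ∈ Γ ↔ ∃ j : ℕ, (G ^ j) w = 0 := fun w => by
    simp only [Γ, Submodule.mem_iSup_of_directed _ hdir, LinearMap.mem_ker]
  let π : W →ₗ[k] W ⧸ Γ := Γ.mkQ
  obtain ⟨σ, hσ⟩ := π.exists_rightInverse_of_surjective (LinearMap.range_eq_top.2 Γ.mkQ_surjective)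
  let bs := Module.Free.chooseBasis k (W ⧸ Γ)
  let B := bs.baseChange V
  have hkill : ∀ z : V ⊗[k] W, π.baseChange V z = 0 → ∃ j : ℕ, (G ^ j).baseChange V z = 0 := by
    intro z hz
    obtain ⟨z', rfl⟩ := ((Module.Flat.lTensor_exact (R := k) V (N := Γ) (N' := W) (N'' := W ⧸ Γ)
      (LinearMap.exact_subtype_mkQ Γ)) z).1 hz
    clear hz
    induction z' using TensorProduct.induction_on with
    | zero => exact ⟨0, by simp⟩
    | tmul c w =>
      obtain ⟨j, hj⟩ := (hΓ _).1 w.2
      exact ⟨j, by rw [LinearMap.lTensor_tmul, LinearMap.baseChange_tmul]; simp [hj]⟩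
    | add p p' hp hp' =>
      obtain ⟨a, ha⟩ := hp
      obtain ⟨b, hb⟩ := hp'
      have hab : ∀ (a b : ℕ) (z : V ⊗[k] W), (G ^ a).baseChange V z = 0 → (G ^ (b + a)).baseChange V z = 0 :=
        fun a b z h => by
          rw [pow_add, Module.End.mul_eq_comp, LinearMap.baseChange_comp, LinearMap.comp_apply, h, map_zero]
      exact ⟨a + b, by rw [map_add, map_add, hab b a _ hb, add_comm a b, hab a b _ ha, add_zero]⟩
  let c := B.repr (π.baseChange V x)
  obtain ⟨b, hb, -, hdvd⟩ := exists_dvd_all (0 : V) (fun i => c i) c.support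
  rcases hb with rfl | ⟨i₀, hi₀, rfl, hc0⟩
  · obtain ⟨j, hj⟩ := hkill x (by
      apply B.repr.injective
      rw [map_zero]
      ext i
      by_contra hne
      exact hne (zero_dvd_iff.1 (hdvd i (Finsupp.mem_support_iff.2 hne))))
    exact absurd hj (hx j)
  choose! d hd using hdvd
  let y' := ∑ i ∈ c.support, d i • B i
  have hy' : π.baseChange V x = c i₀ • y' := by
    rw [Finset.smul_sum]
    conv_lhs => rw [← B.linearCombination_repr (π.baseChange V x)]
    rw [Finsupp.linearCombination_apply, Finsupp.sum]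
    refine Finset.sum_congr rfl fun i hi => ?_
    rw [← mul_smul, ← hd i hi]
  have hd0 : B.repr y' i₀ = 1 := by
    have h1 : c i₀ * B.repr y' i₀ = c i₀ * 1 := by
      rw [mul_one, ← smul_eq_mul, ← Finsupp.smul_apply, ← map_smul, ← hy']
    exact mul_left_cancel₀ hc0 h1
  let y := σ.baseChange V y'
  have hπy : π.baseChange V y = y' := by
    show π.baseChange V (σ.baseChange V y') = y'
    rw [← LinearMap.comp_apply, ← LinearMap.baseChange_comp, hσ, LinearMap.baseChange_id, LinearMap.id_apply]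
  obtain ⟨j, hj⟩ := hkill (x - c i₀ • y) (by rw [map_sub, map_smul, hπy, ← hy', sub_self])
  refine ⟨c i₀, hc0, y, j, ?_, fun i hi => ?_⟩
  · rw [map_sub, map_smul, sub_eq_zero] at hj
    exact hj
  · have hle : Γ ≤ Γ.comap (G ^ i) := fun w hw => by
      obtain ⟨j, hj⟩ := (hΓ w).1 hw
      refine (hΓ _).2 ⟨j, ?_⟩
      rw [← Module.End.mul_apply, ← pow_add, add_comm, pow_add, Module.End.mul_apply, hj, map_zero]
    let Gbar : W ⧸ Γ →ₗ[k] W ⧸ Γ := Γ.mapQ Γ (G ^ i) hle
    have hinj : LinearMap.ker Gbar = ⊥ := by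
      rw [eq_bot_iff]
      intro z hz
      obtain ⟨w, rfl⟩ := Γ.mkQ_surjective z
      have hz' : (G ^ i) w ∈ Γ := (Submodule.Quotient.mk_eq_zero Γ).1 hz
      obtain ⟨j, hj⟩ := (hΓ _).1 hz'
      exact (Submodule.Quotient.mk_eq_zero Γ).2 ((hΓ w).2 ⟨j + i, by rw [pow_add, Module.End.mul_apply, hj]⟩)
    obtain ⟨r, hr⟩ := Gbar.exists_leftInverse_of_injective hinj
    obtain ⟨e, he, h, hh⟩ := exists_mem_smul hi
    have hh1 : y' = e • r.baseChange V (π.baseChange V h) := by
      rw [← map_smul, ← map_smul, ← hh, ← LinearMap.comp_apply, ← LinearMap.baseChange_comp,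
        ← LinearMap.comp_apply, ← LinearMap.baseChange_comp, LinearMap.comp_assoc,
        ← show Gbar ∘ₗ π = π ∘ₗ (G ^ i) from LinearMap.ext fun w => rfl, ← LinearMap.comp_assoc, hr,
        LinearMap.id_comp, hπy]
    have h2 := congrArg (fun z => B.repr z i₀) hh1
    simp only [hd0, map_smul, Finsupp.smul_apply, smul_eq_mul] at h2
    exact he (IsUnit.of_mul_eq_one _ h2.symm)

variable {A : Type u} [CommRing A] {n : ℕ}
  (N : Type u) [AddCommGroup N] [Module (Poly n A) N] [Module A N] [IsScalarTower A (Poly n A) N]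
  (q : Ideal (Poly n A)) [q.IsPrime] {M : Type u} [AddCommGroup M] [Module A M]
  (u : Nq N q →ₗ[A] M) [Module.Flat A M] [Module.FinitePresentation (Poly n A) N]

theorem not_good_of_chain (c : Set (Ideal A)) (hne : c.Nonempty) (hdir : DirectedOn (· ≤ ·) c)
    (hprime : ∀ P ∈ c, P.IsPrime) (hbad : ∀ (P : Ideal A) [P.IsPrime], P ∈ c → ¬ Good u P.ResidueField)
    (p : Ideal A) [p.IsPrime] (hp : p = sSup c) (hgood : Good u p.ResidueField) : False := by
  classical
  obtain ⟨g, hgq, hreg⟩ := exists_regularizer N q p.ResidueField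
  obtain ⟨A0, _, N0, _, _, _, _, _, g0, hg0, ⟨e⟩⟩ := exists_model N g
  let p0 : Ideal A0 := p.comap (algebraMap A0 A)
  haveI : p0.IsPrime := Ideal.IsPrime.comap _
  obtain ⟨P, hP, hP0⟩ : ∃ P ∈ c, p0 ≤ P.comap (algebraMap A0 A) := by
    obtain ⟨s, hs⟩ := (IsNoetherian.noetherian p0 : p0.FG)
    suffices h : ∀ t : Finset A0, t ⊆ s → ∃ P ∈ c, ∀ x ∈ t, algebraMap A0 A x ∈ P by
      obtain ⟨P, hP, hPs⟩ := h s subset_rfl
      exact ⟨P, hP, hs ▸ Submodule.span_le.2 fun x hx => hPs x hx⟩
    intro t ht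
    induction t using Finset.induction with
    | empty => exact ⟨_, hne.choose_spec, fun x hx => absurd hx (Finset.notMem_empty x)⟩
    | insert x t hxt ih =>
      obtain ⟨P, hP, hPt⟩ := ih fun y hy => ht (Finset.mem_insert_of_mem hy)
      have hx : algebraMap A0 A x ∈ sSup c := hp ▸ (hs ▸ Submodule.subset_span (ht (Finset.mem_insert_self x t)) : x ∈ p0)
      obtain ⟨P', hP', hxP'⟩ := (Submodule.mem_sSup_of_directed hne hdir).1 hx
      obtain ⟨P'', hP'', h1, h2⟩ := hdir P hP P' hP'
      refine ⟨P'', hP'', fun y hy => ?_⟩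
      rcases Finset.mem_insert.1 hy with rfl | hy
      exacts [h2 hxP', h1 (hPt y hy)]
  haveI := hprime P hP
  have hPp : P ≤ p := hp ▸ le_sSup hP
  let K := P.ResidueField
  refine hbad P hP ((injective_iff_map_eq_zero (u.lTensor K)).2 fun z hz => ?_)
  by_contra hz0
  have hAp : ∀ a : p.primeCompl, IsUnit (algebraMap A K a) := fun a =>
    isUnit_iff_ne_zero.2 fun h => a.2 (hPp (Ideal.algebraMap_residueField_eq_zero.1 h))
  obtain ⟨V, gV, hgV, hloc⟩ := GrothLib.RG6.exists_valuation
    (IsLocalization.lift (M := p.primeCompl) (S := Localization.AtPrime p) hAp)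
  letI : Algebra A V := (gV.comp (algebraMap A (Localization.AtPrime p))).toAlgebra
  haveI : IsScalarTower A V K := IsScalarTower.of_algebraMap_eq fun a => by
    rw [← IsLocalization.lift_eq (M := p.primeCompl) (S := Localization.AtPrime p) hAp a, ← hgV]
    rfl
  have hcentre : (maximalIdeal V).comap (algebraMap A V) = p := by
    ext a
    rw [← IsLocalization.AtPrime.to_map_mem_maximal_iff (Localization.AtPrime p) p a, Ideal.mem_comap]
    exact not_congr (isUnit_map_iff gV _)
  have hV : Good u (ResidueField V) := good_residue N q u V p hcentre hgood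
  -- the residue field of the small ring acts
  let i0 : A0 ⧸ p0 →+* V := Ideal.Quotient.lift p0 (algebraMap A0 V) fun x hx => by
    apply IsFractionRing.injective V K
    rw [map_zero, show algebraMap A0 V x = algebraMap A V (algebraMap A0 A x) from rfl,
      ← IsScalarTower.algebraMap_apply A V K]
    exact Ideal.algebraMap_residueField_eq_zero.2 (hP0 hx)
  have hunit : ∀ x : nonZeroDivisors (A0 ⧸ p0), IsUnit (i0 x) := by
    intro ⟨x, hx⟩
    obtain ⟨x, rfl⟩ := Ideal.Quotient.mk_surjective x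
    show IsUnit (gV (algebraMap A _ (algebraMap A0 A x)))
    refine (IsLocalization.map_units (Localization.AtPrime p) (⟨algebraMap A0 A x, fun h => ?_⟩ : p.primeCompl)).map gV
    exact nonZeroDivisors.ne_zero hx (Ideal.Quotient.eq_zero_iff_mem.2 h)
  let k0 := p0.ResidueField
  letI : Algebra k0 V := (IsLocalization.lift (M := nonZeroDivisors (A0 ⧸ p0)) (S := k0) hunit).toAlgebra
  haveI : IsScalarTower A0 k0 V := IsScalarTower.of_algebraMap_eq fun a => by
    show algebraMap A0 V a = IsLocalization.lift (M := nonZeroDivisors (A0 ⧸ p0)) (S := k0) hunit _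
    rw [← Ideal.algebraMap_quotient_residueField_mk, IsLocalization.lift_eq]
    rfl
  obtain ⟨E, hE⟩ := exists_modelEquiv' k0 V e
  let W0 := NC A0 n N0 k0
  let G : W0 →ₗ[k0] W0 := (LinearMap.lsmul (Poly n k0) W0 (algebraMap (Poly n A0) (Poly n k0) g0)).restrictScalars k0
  have hEG : ∀ (j : ℕ) (x : V ⊗[k0] W0), E ((G ^ j).baseChange V x) = g ^ j • E x := by
    intro j
    induction j with
    | zero =>
      intro x
      rw [pow_zero, pow_zero, one_smul, Module.End.one_eq_id, LinearMap.baseChange_id, LinearMap.id_apply]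
    | succ j ih =>
      intro x
      rw [pow_succ, pow_succ, mul_smul, Module.End.mul_eq_comp, LinearMap.baseChange_comp, LinearMap.comp_apply, ih]
      congr 1
      rw [← hg0]
      exact hE g0 x
  -- scale the kernel element into the valuation ring
  obtain ⟨t, ht, f, hf⟩ := exists_act_eq_ι N q K z
  let φ := IsScalarTower.toAlgHom A V K
  obtain ⟨hsurj, -⟩ := mapN_localization (A := A) (n := n) N V K (nonZeroDivisors V)
  obtain ⟨w, hw, f0, hf0⟩ := hsurj f
  change mapN N φ f0 = algebraMap V K w • f at hf0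
  have hw0 : algebraMap V K w ≠ 0 := fun h0 =>
    nonZeroDivisors.ne_zero hw (IsFractionRing.injective V K (h0.trans (map_zero _).symm))
  obtain ⟨zV, hzV⟩ := (act_bijective N q V ht).2 (ι N q V f0)
  have hzVK : φ.toLinearMap.rTensor (Nq N q) zV = algebraMap V K w • z := by
    apply (act_bijective N q K ht).1
    rw [← act_map, hzV, ι_mapN, hf0, map_smul, map_smul, hf]
  have huzV : u.lTensor V zV = 0 := by
    refine lTensor_eq_zero_of_injective N q u φ (IsFractionRing.injective V K) ?_
    rw [hzVK, show u.lTensor K (algebraMap V K w • z) = algebraMap V K w • u.lTensor K z from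
      (u.baseChange K).map_smul _ z, hz, smul_zero]
  obtain ⟨x, hx⟩ := E.surjective f0
  have hgpow : ∀ j : ℕ, g ^ j ∉ q := fun j h => hgq ((inferInstance : q.IsPrime).mem_of_pow_mem j h)
  have hx0 : ∀ j : ℕ, (G ^ j).baseChange V x ≠ 0 := fun j h => by
    have h1 : g ^ j • f0 = 0 := by rw [← hx, ← hEG, h, map_zero]
    have h2 : act N q V (g ^ j) (act N q V t zV) = 0 := by rw [hzV, ← ι_smul, h1, map_zero]
    have h3 : zV = 0 := (act_bijective N q V ht).1 (((act_bijective N q V (hgpow j)).1
      (h2.trans (map_zero _).symm)).trans (map_zero _).symm)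
    rw [h3, map_zero] at hzVK
    rcases smul_eq_zero.1 hzVK.symm with h | h
    exacts [hw0 h, hz0 h]
  obtain ⟨b, hb, y, j, hxy, hy⟩ := exists_content_baseChange G x hx0
  let Y := E y
  have hgf : g ^ j • f0 = b • (g ^ j • Y) := by rw [← hx, ← hEG, hxy, map_smul, hEG]
  let e1 := LinearEquiv.ofBijective (act N q V t) (act_bijective N q V ht)
  let e2 := LinearEquiv.ofBijective (act N q V (g ^ j)) (act_bijective N q V (hgpow j))
  let y'' := (e1.trans e2).symm (ι N q V (g ^ j • Y))
  have hzy : zV = b • y'' := by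
    apply (e1.trans e2).injective
    rw [map_smul]
    show act N q V (g ^ j) (act N q V t zV) = b • (e1.trans e2) y''
    rw [LinearEquiv.apply_symm_apply, hzV, ← ι_smul, hgf, map_smul]
  obtain ⟨cV, hcV, y3, hy3⟩ := exists_smul_of_kernel N q u V hV
    (lTensor_eq_zero_of_smul N q u V hb (x := y'') (hzy ▸ huzV))
  have hιY : ι N q V (g ^ j • Y) = cV • (e1.trans e2) y3 := by
    rw [← (e1.trans e2).map_smul, ← hy3]
    exact ((e1.trans e2).apply_symm_apply _).symm
  obtain ⟨t', ht', h, hth⟩ := exists_smul_eq_of_ι_eq N q V hιY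
  obtain ⟨k, hk⟩ := exists_pow_smul_mem (A := A) N V p hcentre (g := g) (t := t') (hreg t' ht') (g ^ j • Y)
    (hth ▸ Submodule.smul_mem_smul hcV trivial)
  obtain ⟨cc, hcc, h', hh'⟩ := exists_mem_smul hk
  refine hy (k + j) ?_
  have h5 : (G ^ (k + j)).baseChange V y = cc • E.symm h' := by
    apply E.injective
    rw [map_smul, LinearEquiv.apply_symm_apply, hEG, pow_add, mul_smul]
    exact hh'
  rw [h5]
  exact Submodule.smul_mem_smul hcc trivial

end GrothLib.RG6.InjMod
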