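import Groth.Agent.Lib.RG6.InjMod.RegStep
import Groth.Agent.Lib.RG6.InjMod.Chain
import Groth.Agent.Lib.GenFree.Presentation

/-!
# All modules are good
-/

set_option autoImplicit false
set_option linter.style.haveILetI false
set_option linter.unusedSectionVars false
set_option maxHeartbeats 1000000
set_option synthInstance.maxHeartbeats 200000

universe u

open TensorProduct IsLocalRing

attribute [local instance] MvPolynomial.algebraMvPolynomial

namespace GrothLib.RG6.InjMod

/-- Generic freeness of the small model gives flatness of the model wherever one element is a unit. -/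
theorem exists_flat_away {A0 A : Type u} [CommRing A0] [CommRing A] [Algebra A0 A] {n : ℕ}
    {N0 : Type u} [AddCommGroup N0] [Module (Poly n A0) N0] [Module.Finite (Poly n A0) N0]
    (N : Type u) [AddCommGroup N] [Module (Poly n A) N] (e : Poly n A ⊗[Poly n A0] N0 ≃ₗ[Poly n A] N)
    (R : Type u) [CommRing R] [IsDomain R] [IsNoetherianRing R] [Algebra A0 R] :
    ∃ f : R, f ≠ 0 ∧ ∀ (C : Type u) [CommRing C] [Algebra A C] [Algebra R C] [Algebra A0 C] [IsScalarTower A0 A C]
      [IsScalarTower A0 R C], IsUnit (algebraMap R C f) → Module.Flat C (NC A n N C) := by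
  obtain ⟨f, -, hf, hfree, -⟩ := GrothLib.GenFree.exists_free_and_finitePresentation (R := R) (Poly n R)
    (NC A0 n N0 R) 1 one_ne_zero
  refine ⟨f, hf, fun C _ _ _ _ _ _ hfC => ?_⟩
  obtain ⟨E, -⟩ := exists_modelEquiv' R C e
  let Rf := Localization.Away f
  have hu : ∀ x : Submonoid.powers f, IsUnit (algebraMap R C x) := by
    rintro ⟨_, k, rfl⟩
    rw [map_pow]
    exact hfC.pow k
  letI : Algebra Rf C := (IsLocalization.lift (S := Rf) hu).toAlgebra
  haveI : IsScalarTower R Rf C := IsScalarTower.of_algebraMap_eq fun x =>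
    (IsLocalization.lift_eq (S := Rf) hu x).symm
  haveI : Module.Free Rf (Rf ⊗[R] NC A0 n N0 R) := hfree
  haveI : Module.Free C (C ⊗[Rf] (Rf ⊗[R] NC A0 n N0 R)) := inferInstance
  haveI : Module.Free C (C ⊗[R] NC A0 n N0 R) :=
    Module.Free.of_equiv (AlgebraTensorModule.cancelBaseChange R Rf C C (NC A0 n N0 R))
  exact Module.Flat.of_linearEquiv E.symm

variable {A : Type u} [CommRing A] [IsLocalRing A] {n : ℕ}
  (N : Type u) [AddCommGroup N] [Module (Poly n A) N] [Module A N] [IsScalarTower A (Poly n A) N]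
  (q : Ideal (Poly n A)) [q.IsPrime] {M : Type u} [AddCommGroup M] [Module A M]
  (u : Nq N q →ₗ[A] M) [Module.Flat A M] [Module.FinitePresentation (Poly n A) N]

theorem good_residueFields (hqm : q.comap (algebraMap A (Poly n A)) = maximalIdeal A)
    (hm : Good u (maximalIdeal A).ResidueField) (p : Ideal A) [hp : p.IsPrime] : Good u p.ResidueField := by
  by_contra hbad
  let S : Set (Ideal A) := {P | ∃ _ : P.IsPrime, ¬ Good u P.ResidueField}
  have hub : ∀ c ⊆ S, IsChain (· ≤ ·) c → ∀ y ∈ c, ∃ ub ∈ S, ∀ z ∈ c, z ≤ ub := fun c hcS hc y hy => by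
    have hne : c.Nonempty := ⟨y, hy⟩
    have hdir : DirectedOn (· ≤ ·) c := hc.directedOn
    have hcl : ∀ x, x ∈ sSup c ↔ ∃ P ∈ c, x ∈ P := fun x => Submodule.mem_sSup_of_directed hne hdir
    have hpr : (sSup c).IsPrime := by
      refine ⟨fun h => ?_, fun {a b} hab => ?_⟩
      · obtain ⟨P, hP, h1⟩ := (hcl 1).1 (h ▸ Submodule.mem_top)
        exact (hcS hP).1.ne_top ((Ideal.eq_top_iff_one P).2 h1)
      · obtain ⟨P, hP, h1⟩ := (hcl _).1 hab
        rcases (hcS hP).1.mem_or_mem h1 with h | h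
        exacts [Or.inl ((hcl a).2 ⟨P, hP, h⟩), Or.inr ((hcl b).2 ⟨P, hP, h⟩)]
    exact ⟨sSup c, ⟨hpr, fun hgood => not_good_of_chain N q u c hne hdir (fun P hP => (hcS hP).1)
      (fun P _ hP => (hcS hP).2) (sSup c) rfl hgood⟩, fun z hz => le_sSup hz⟩
  obtain ⟨P, -, hP⟩ := zorn_le_nonempty₀ S hub p ⟨hp, hbad⟩
  obtain ⟨hPp, hPbad⟩ := hP.1
  exact hPbad (good_of_forall_gt N q u hqm hm P fun P' hP' hlt => by
    by_contra h
    exact hlt.not_ge (hP.2 ⟨hP', h⟩ hlt.le))

/-- **All modules are good.** -/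
theorem good_all (hqm : q.comap (algebraMap A (Poly n A)) = maximalIdeal A)
    (hm : Good u (maximalIdeal A).ResidueField) (X : Type u) [AddCommGroup X] [Module A X] : Good u X := by
  classical
  obtain ⟨A0, _, N0, _, _, _, _, _, -, -, ⟨e⟩⟩ := exists_model N (0 : Poly n A)
  suffices key : ∀ I0 : Ideal A0, ∀ (Y : Type u) [AddCommGroup Y] [Module A Y],
      (∀ a ∈ I0.map (algebraMap A0 A), ∀ y : Y, a • y = 0) → Good u Y from
    key ⊥ X fun a ha x => by rw [Ideal.map_bot, Ideal.mem_bot] at ha; rw [ha, zero_smul]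
  intro I0
  induction I0 using (wellFounded_gt (α := Ideal A0)).induction with
  | _ I0 ih =>
  refine good_of_cyclic (I0.map (algebraMap A0 A)) fun J hJ => ?_
  by_cases hpr : I0.IsPrime
  · -- a prime of the small ring
    let R := A0 ⧸ I0
    obtain ⟨f, hf, hfflat⟩ := exists_flat_away N e R
    obtain ⟨f0, rfl⟩ := Ideal.Quotient.mk_surjective f
    have hf0 : f0 ∉ I0 := fun h => hf (Ideal.Quotient.eq_zero_iff_mem.2 h)
    let s : A := algebraMap A0 A f0
    -- modules killed by a power
    have hpow : ∀ (k : ℕ) (Y : Type u) [AddCommGroup Y] [Module A Y],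
        (∀ a ∈ I0.map (algebraMap A0 A) ⊔ Ideal.span {s ^ k}, ∀ y : Y, a • y = 0) → Good u Y := by
      intro k Y _ _ hY
      refine ih (I0 ⊔ Ideal.span {f0 ^ k}) ?_ Y fun a ha y => hY a ?_ y
      · refine lt_of_le_of_ne le_sup_left fun h => hf0 (hpr.mem_of_pow_mem k ?_)
        rw [h]
        exact Ideal.mem_sup_right (Ideal.mem_span_singleton_self _)
      · rwa [Ideal.map_sup, Ideal.map_span, Set.image_singleton, map_pow] at ha
    -- saturate
    let J' : Ideal A :=
      { carrier := {a | ∃ k : ℕ, s ^ k * a ∈ J}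
        zero_mem' := ⟨0, by rw [mul_zero]; exact zero_mem _⟩
        add_mem' := fun {x y} ⟨a, ha⟩ ⟨b, hb⟩ => ⟨a + b, by
          rw [mul_add, pow_add]
          exact add_mem (by rw [mul_comm (s ^ a), mul_assoc]; exact Ideal.mul_mem_left _ _ ha)
            (by rw [mul_assoc]; exact Ideal.mul_mem_left _ _ hb)⟩
        smul_mem' := fun r x ⟨a, ha⟩ => ⟨a, by
          rw [smul_eq_mul, mul_left_comm]; exact Ideal.mul_mem_left _ _ ha⟩ }
    have hJJ' : J ≤ J' := fun a ha => ⟨0, by rw [pow_zero, one_mul]; exact ha⟩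
    let π : A ⧸ J →ₗ[A] A ⧸ J' := Submodule.factor hJJ'
    have hπ : Function.Surjective π := Submodule.factor_surjective hJJ'
    refine Good.of_exact (LinearMap.ker π).subtype π Subtype.val_injective hπ (LinearMap.exact_subtype_ker_map π)
      (Good.of_fg fun W hW => ?_) ?_
    · obtain ⟨k, hk⟩ : ∃ k : ℕ, ∀ w ∈ W, s ^ k • w = 0 := by
        obtain ⟨G, hG⟩ := hW
        have h1 : ∀ w : LinearMap.ker π, ∃ k : ℕ, s ^ k • w = 0 := fun ⟨w, hw⟩ => by
          obtain ⟨a, rfl⟩ := Ideal.Quotient.mk_surjective w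
          have ha : a ∈ J' := (Submodule.Quotient.mk_eq_zero J').1 hw
          obtain ⟨k, hk⟩ := ha
          exact ⟨k, Subtype.ext ((Submodule.Quotient.mk_eq_zero J).2 hk)⟩
        choose κ hκ using h1
        refine ⟨∑ g ∈ G, κ g, fun w hw => ?_⟩
        rw [← hG] at hw
        induction hw using Submodule.span_induction with
        | mem g hg =>
          rw [← Finset.sum_erase_add G κ hg, pow_add, mul_smul, hκ, smul_zero]
        | zero => rw [smul_zero]
        | add a b _ _ ha hb => rw [smul_add, ha, hb, add_zero]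
        | smul r a _ ha => rw [smul_comm, ha, smul_zero]
      refine hpow k W fun a ha y => ?_
      obtain ⟨j, hj, c, hc, rfl⟩ := Submodule.mem_sup.1 ha
      obtain ⟨d, rfl⟩ := Ideal.mem_span_singleton'.1 hc
      rw [add_smul, mul_smul, show s ^ k • y = 0 from Subtype.ext (hk y.1 y.2), smul_zero, add_zero]
      refine Subtype.ext (Subtype.ext ?_)
      show j • ((y : LinearMap.ker π) : A ⧸ J) = 0
      obtain ⟨b, hb⟩ := Ideal.Quotient.mk_surjective ((y : LinearMap.ker π) : A ⧸ J)
      rw [← hb]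
      exact (Submodule.Quotient.mk_eq_zero J).2 (Ideal.mul_mem_right _ _ (hJ hj))
    · -- the regular quotient
      have hreg : ∀ a, s * a ∈ J' → a ∈ J' := fun a ⟨k, hk⟩ => ⟨k + 1, by rwa [pow_succ, mul_assoc]⟩
      refine good_quotient_of_regular N q u hqm (fun p _ => good_residueFields N q u hqm hm p) J' s hreg ?_
        fun Y _ _ hY => hpow 1 Y fun a ha y => hY a ?_ y
      · let B := A ⧸ J'
        let C := Localization.Away (Ideal.Quotient.mk J' s)
        let ρ : R →+* B := Ideal.Quotient.lift I0 ((Ideal.Quotient.mk J').comp (algebraMap A0 A)) fun x hx =>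
          Ideal.Quotient.eq_zero_iff_mem.2 (hJJ' (hJ (Ideal.mem_map_of_mem _ hx)))
        letI : Algebra R C := ((algebraMap B C).comp ρ).toAlgebra
        haveI : IsScalarTower A0 R C := IsScalarTower.of_algebraMap_eq (R := A0) (S := R) (A := C) fun x => by
          rw [IsScalarTower.algebraMap_apply A0 A C, IsScalarTower.algebraMap_apply A B C]
          rfl
        refine hfflat C ?_
        exact IsLocalization.map_units C
          (⟨Ideal.Quotient.mk J' s, Submonoid.mem_powers _⟩ : Submonoid.powers (Ideal.Quotient.mk J' s))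
      · rw [pow_one] at ha
        exact sup_le_sup_right (hJ.trans hJJ') _ ha
  · -- not prime
    by_cases htop : I0 = ⊤
    · haveI : Subsingleton (A ⧸ J) := Ideal.Quotient.subsingleton_iff.2 (eq_top_iff.2 (by
        rw [htop, Ideal.map_top] at hJ; exact hJ))
      exact Good.of_subsingleton _
    obtain ⟨a, ha, b, hb, hab⟩ : ∃ a ∉ I0, ∃ b ∉ I0, a * b ∈ I0 := by
      by_contra! hne
      exact hpr ⟨htop, fun {x y} hxy => by
        by_contra! h
        exact hne x h.1 y h.2 hxy⟩
    let α : A := algebraMap A0 A a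
    let mα : A ⧸ J →ₗ[A] A ⧸ J := LinearMap.lsmul A (A ⧸ J) α
    have hkillJ : ∀ x ∈ J, ∀ y : A ⧸ J, x • y = 0 := fun x hx y => by
      obtain ⟨y, rfl⟩ := Ideal.Quotient.mk_surjective y
      exact (Submodule.Quotient.mk_eq_zero J).2 (Ideal.mul_mem_right _ _ hx)
    refine Good.of_exact (LinearMap.range mα).subtype (LinearMap.range mα).mkQ Subtype.val_injective
      (Submodule.mkQ_surjective _) (LinearMap.exact_subtype_mkQ _)
      (ih (I0 ⊔ Ideal.span {b}) ?_ _ fun x hx y => ?_) (ih (I0 ⊔ Ideal.span {a}) ?_ _ fun x hx y => ?_)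
    · exact lt_of_le_of_ne le_sup_left fun h => hb (h ▸ Ideal.mem_sup_right (Ideal.mem_span_singleton_self b))
    · rw [Ideal.map_sup, Ideal.map_span, Set.image_singleton] at hx
      obtain ⟨j, hj, c, hc, rfl⟩ := Submodule.mem_sup.1 hx
      obtain ⟨d, rfl⟩ := Ideal.mem_span_singleton'.1 hc
      obtain ⟨_, y, rfl⟩ := y
      refine Subtype.ext ?_
      show (j + d * algebraMap A0 A b) • (α • y) = 0
      rw [← mul_smul]
      refine hkillJ _ ?_ y
      rw [add_mul]
      refine add_mem (Ideal.mul_mem_right _ _ (hJ hj)) ?_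
      rw [mul_assoc, mul_comm (algebraMap A0 A b), ← map_mul]
      exact Ideal.mul_mem_left _ _ (hJ (Ideal.mem_map_of_mem _ hab))
    · exact lt_of_le_of_ne le_sup_left fun h => ha (h ▸ Ideal.mem_sup_right (Ideal.mem_span_singleton_self a))
    · rw [Ideal.map_sup, Ideal.map_span, Set.image_singleton] at hx
      obtain ⟨j, hj, c, hc, rfl⟩ := Submodule.mem_sup.1 hx
      obtain ⟨d, rfl⟩ := Ideal.mem_span_singleton'.1 hc
      obtain ⟨y, rfl⟩ := Submodule.mkQ_surjective _ y
      rw [← map_smul, Submodule.mkQ_apply, Submodule.Quotient.mk_eq_zero, add_smul, hkillJ j (hJ hj), zero_add,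
        mul_smul]
      exact Submodule.smul_mem _ d ⟨y, rfl⟩

end GrothLib.RG6.InjMod
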