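import Mathlib
import Groth.Agent.Lib.RG6.Valuative

/-!
# Maps injective after tensoring with a module, into a flat module
-/

set_option autoImplicit false
set_option linter.style.haveILetI false

universe u

open TensorProduct

namespace GrothLib.RG6.InjMod

variable {A : Type u} [CommRing A] {F M : Type u} [AddCommGroup F] [Module A F] [AddCommGroup M] [Module A M]

/-- The map stays injective after tensoring with `X`. -/
def Good (u : F →ₗ[A] M) (X : Type u) [AddCommGroup X] [Module A X] : Prop :=
  Function.Injective (u.lTensor X)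

variable {u : F →ₗ[A] M}

theorem lTensor_rTensor_comm {X Y : Type u} [AddCommGroup X] [Module A X] [AddCommGroup Y] [Module A Y]
    (f : X →ₗ[A] Y) (z : X ⊗[A] F) :
    u.lTensor Y (f.rTensor F z) = f.rTensor M (u.lTensor X z) := by
  rw [← LinearMap.comp_apply, ← LinearMap.comp_apply, LinearMap.lTensor_comp_rTensor,
    LinearMap.rTensor_comp_lTensor]

theorem Good.of_exact [Module.Flat A M] {X' X X'' : Type u} [AddCommGroup X'] [Module A X'] [AddCommGroup X]
    [Module A X] [AddCommGroup X''] [Module A X''] (f : X' →ₗ[A] X) (g : X →ₗ[A] X'')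
    (hf : Function.Injective f) (hg : Function.Surjective g) (hex : Function.Exact f g)
    (h' : Good u X') (h'' : Good u X'') : Good u X := by
  refine (injective_iff_map_eq_zero (u.lTensor X)).2 fun z hz => ?_
  have h1 : g.rTensor F z = 0 := h'' (by rw [lTensor_rTensor_comm, hz, map_zero, map_zero])
  obtain ⟨z', rfl⟩ := ((rTensor_exact F hex hg) z).1 h1
  rw [lTensor_rTensor_comm] at hz
  have h2 : u.lTensor X' z' = 0 :=
    Module.Flat.rTensor_preserves_injective_linearMap f hf (by rw [hz, map_zero])
  rw [h' (h2.trans (map_zero _).symm), map_zero]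

theorem Good.of_equiv {X Y : Type u} [AddCommGroup X] [Module A X] [AddCommGroup Y] [Module A Y]
    (e : X ≃ₗ[A] Y) (h : Good u X) : Good u Y := by
  refine (injective_iff_map_eq_zero (u.lTensor Y)).2 fun z hz => ?_
  obtain ⟨z', rfl⟩ := (e.rTensor F).surjective z
  have h2 : u.lTensor X z' = 0 := by
    apply (e.rTensor M).injective
    rw [map_zero]
    exact (lTensor_rTensor_comm (u := u) e.toLinearMap z').symm.trans hz
  rw [h (h2.trans (map_zero _).symm), map_zero]

theorem Good.of_subsingleton (X : Type u) [AddCommGroup X] [Module A X] [Subsingleton X] : Good u X :=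
  fun _ _ _ => Subsingleton.elim _ _

theorem Good.of_fg [Module.Flat A M] {X : Type u} [AddCommGroup X] [Module A X]
    (h : ∀ N : Submodule A X, N.FG → Good u N) : Good u X := by
  refine (injective_iff_map_eq_zero (u.lTensor X)).2 fun z hz => ?_
  obtain ⟨N, hN, z', rfl⟩ : ∃ N : Submodule A X, N.FG ∧ ∃ z' : N ⊗[A] F, N.subtype.rTensor F z' = z := by
    clear hz
    induction z using TensorProduct.induction_on with
    | zero => exact ⟨⊥, Submodule.fg_bot, 0, map_zero _⟩
    | tmul x y =>
      exact ⟨_, Submodule.fg_span_singleton x, ⟨x, Submodule.mem_span_singleton_self x⟩ ⊗ₜ[A] y, rfl⟩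
    | add a b ha hb =>
      obtain ⟨N₁, hN₁, a', rfl⟩ := ha
      obtain ⟨N₂, hN₂, b', rfl⟩ := hb
      refine ⟨N₁ ⊔ N₂, hN₁.sup hN₂, (Submodule.inclusion le_sup_left).rTensor F a' +
        (Submodule.inclusion le_sup_right).rTensor F b', ?_⟩
      rw [map_add, ← LinearMap.rTensor_comp_apply, ← LinearMap.rTensor_comp_apply,
        Submodule.subtype_comp_inclusion, Submodule.subtype_comp_inclusion]
  rw [lTensor_rTensor_comm] at hz
  have h2 : u.lTensor N z' = 0 :=
    Module.Flat.rTensor_preserves_injective_linearMap N.subtype Subtype.val_injective (by rw [hz, map_zero])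
  rw [h N hN (h2.trans (map_zero _).symm), map_zero]

/-- Good on all cyclic modules killed by an ideal gives good on all modules killed by it. -/
theorem good_of_cyclic [Module.Flat A M] (I : Ideal A) (h : ∀ J : Ideal A, I ≤ J → Good u (A ⧸ J))
    (X : Type u) [AddCommGroup X] [Module A X] (hX : ∀ a ∈ I, ∀ x : X, a • x = 0) : Good u X := by
  refine Good.of_fg fun N hN => ?_
  induction N, hN using Submodule.fg_sup_span_induction with
  | bot => exact Good.of_subsingleton _
  | sup N x hN ih =>
    let S : Submodule A X := N ⊔ (A ∙ x)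
    let N' : Submodule A S := N.comap S.subtype
    let i : N →ₗ[A] S := Submodule.inclusion le_sup_left
    let φ : A →ₗ[A] S ⧸ N' :=
      LinearMap.toSpanSingleton A _ (N'.mkQ ⟨x, le_sup_right (a := N) (Submodule.mem_span_singleton_self x)⟩)
    have hφ : Function.Surjective φ := by
      intro z
      obtain ⟨⟨y, hy⟩, rfl⟩ := N'.mkQ_surjective z
      obtain ⟨n, hn, w, hw, rfl⟩ := Submodule.mem_sup.1 hy
      obtain ⟨a, rfl⟩ := Submodule.mem_span_singleton.1 hw
      refine ⟨a, (Submodule.Quotient.eq N').2 ?_⟩
      show (a • x - (n + a • x) : X) ∈ N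
      simpa using hn
    refine Good.of_exact i N'.mkQ (Submodule.inclusion_injective _) N'.mkQ_surjective ?_ ih ?_
    · intro y
      rw [Submodule.mkQ_apply, Submodule.Quotient.mk_eq_zero]
      constructor
      · intro hy
        exact ⟨⟨y.1, hy⟩, rfl⟩
      · rintro ⟨n, rfl⟩
        exact n.2
    · refine Good.of_equiv (φ.quotKerEquivOfSurjective hφ) (h _ fun a ha => ?_)
      rw [LinearMap.mem_ker]
      show a • N'.mkQ _ = 0
      rw [← map_smul, show a • (⟨x, _⟩ : S) = 0 from Subtype.ext (hX a ha x), map_zero]

/-- Purity in a flat module gives flatness. -/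
theorem flat_of_good [Module.Flat A M] (h : ∀ (X : Type u) [AddCommGroup X] [Module A X], Good u X) :
    Module.Flat A F := by
  rw [Module.Flat.iff_rTensor_preserves_injective_linearMap]
  intro X Y _ _ _ _ f hf a b hab
  refine h X (Module.Flat.rTensor_preserves_injective_linearMap f hf ?_)
  rw [← lTensor_rTensor_comm, hab, lTensor_rTensor_comm]

/-- Good for a field descends from extensions. -/
theorem Good.of_extension {K K' : Type u} [Field K] [Field K'] [Algebra A K] [Algebra A K'] [Algebra K K']
    [IsScalarTower A K K'] (h : Good u K') : Good u K := by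
  obtain ⟨r, hr⟩ := LinearMap.exists_leftInverse_of_injective (Algebra.linearMap K K')
    (LinearMap.ker_eq_bot.2 (algebraMap K K').injective)
  refine (injective_iff_map_eq_zero (u.lTensor K)).2 fun z hz => ?_
  let i : K →ₗ[A] K' := (Algebra.linearMap K K').restrictScalars A
  have h1 : i.rTensor F z = 0 := h (by rw [lTensor_rTensor_comm, hz, map_zero, map_zero])
  have h2 : (r.restrictScalars A).rTensor F (i.rTensor F z) = z := by
    rw [← LinearMap.rTensor_comp_apply,
      show r.restrictScalars A ∘ₗ i = LinearMap.id from LinearMap.ext fun k => LinearMap.congr_fun hr k,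
      LinearMap.rTensor_id, LinearMap.id_apply]
  rw [← h2, h1, map_zero]

/-- Good for a field only depends on the kernel. -/
theorem good_field_iff (K : Type u) [Field K] [Algebra A K] (p : Ideal A) [p.IsPrime]
    (hp : RingHom.ker (algebraMap A K) = p) : Good u p.ResidueField ↔ Good u K := by
  let e := Ideal.algEquivResidueFieldOfField (⊥ : Ideal K)
  let f : p.ResidueField →+* K := (e.symm : (⊥ : Ideal K).ResidueField →+* K).comp
    (Ideal.ResidueField.map p ⊥ (algebraMap A K) hp.symm)
  letI : Algebra p.ResidueField K := f.toAlgebra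
  haveI : IsScalarTower A p.ResidueField K := IsScalarTower.of_algebraMap_eq fun a => by
    show algebraMap A K a = e.symm (Ideal.ResidueField.map p ⊥ (algebraMap A K) hp.symm _)
    rw [Ideal.ResidueField.map_algebraMap]
    exact (e.symm_apply_apply _).symm
  exact ⟨fun h => lTensor_injective_ext u h, Good.of_extension⟩

end GrothLib.RG6.InjMod
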