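import Groth.Agent.Lib.RG6.InjMod.Model

/-!
# Localisation of the base of the model
-/

set_option autoImplicit false
set_option linter.style.haveILetI false
set_option linter.unusedSectionVars false

universe u

open TensorProduct

attribute [local instance] MvPolynomial.algebraMvPolynomial

namespace GrothLib.RG6.InjMod

variable {A : Type u} [CommRing A] {n : ℕ}
  (N : Type u) [AddCommGroup N] [Module (Poly n A) N] [Module A N] [IsScalarTower A (Poly n A) N]
  (C C' : Type u) [CommRing C] [Algebra A C] [CommRing C'] [Algebra A C'] [Algebra C C'] [IsScalarTower A C C']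
  (S : Submonoid C) [IsLocalization S C']

instance isScalarTower_poly : IsScalarTower (Poly n A) (Poly n C) (Poly n C') :=
  IsScalarTower.of_algebraMap_eq fun t => by
    show MvPolynomial.map (algebraMap A C') t = MvPolynomial.map (algebraMap C C') (MvPolynomial.map (algebraMap A C) t)
    rw [MvPolynomial.map_map, ← IsScalarTower.algebraMap_eq]

/-- Localising the base localises the model. -/
theorem mapN_localization :
    (∀ g' : NC A n N C', ∃ w ∈ S, ∃ g, mapN N (IsScalarTower.toAlgHom A C C') g = algebraMap C C' w • g') ∧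
      ∀ g : NC A n N C, mapN N (IsScalarTower.toAlgHom A C C') g = 0 → ∃ w ∈ S, w • g = 0 := by
  let PC := Poly n C
  let PC' := Poly n C'
  let e := AlgebraTensorModule.cancelBaseChange (Poly n A) PC PC' PC' N
  let f : NC A n N C →ₗ[PC] NC A n N C' := (e.toLinearMap.restrictScalars PC) ∘ₗ TensorProduct.mk PC PC' _ 1
  have hf : ∀ g, f g = mapN N (IsScalarTower.toAlgHom A C C') g := fun g => by
    induction g using TensorProduct.induction_on with
    | zero => rw [map_zero, map_zero]
    | add a b ha hb => rw [map_add, map_add, ha, hb]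
    | tmul c x =>
      rw [mapN_tmul]
      show e ((1 : PC') ⊗ₜ[PC] (c ⊗ₜ[Poly n A] x)) = _
      rw [AlgebraTensorModule.cancelBaseChange_tmul, Algebra.smul_def, mul_one]
      rfl
  haveI : IsLocalizedModule (S.map (MvPolynomial.C (σ := Fin n))) f :=
    (isLocalizedModule_iff_isBaseChange (S.map (MvPolynomial.C (σ := Fin n))) PC' f).2
      (IsBaseChange.of_equiv e fun x => rfl)
  constructor
  · intro g'
    obtain ⟨⟨g, ⟨_, w, hw, rfl⟩⟩, hg⟩ := IsLocalizedModule.surj (S.map (MvPolynomial.C (σ := Fin n))) f g'
    refine ⟨w, hw, g, ?_⟩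
    rw [← hf]
    refine hg.symm.trans ?_
    show algebraMap PC PC' (MvPolynomial.C w) • g' = _
    rw [show algebraMap PC PC' (MvPolynomial.C w) = algebraMap C' PC' (algebraMap C C' w) from
      MvPolynomial.map_C _ _, algebraMap_smul]
  · intro g hg
    rw [← hf] at hg
    obtain ⟨⟨_, w, hw, rfl⟩, hwg⟩ := (IsLocalizedModule.eq_zero_iff (S.map (MvPolynomial.C (σ := Fin n))) f).1 hg
    refine ⟨w, hw, ?_⟩
    rw [← algebraMap_smul PC w g]
    exact hwg

end GrothLib.RG6.InjMod
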