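import Groth.Agent.Lib.RG6.InjMod.Torsion
import Groth.Agent.Lib.RG6.Valuative

/-!
# No deep kernel elements
-/

set_option autoImplicit false
set_option backward.isDefEq.respectTransparency false
set_option linter.style.haveILetI false
set_option linter.unusedSectionVars false
set_option maxHeartbeats 400000

universe u

open IsLocalRing

namespace GrothLib.RG6.InjMod

variable {V : Type u} [CommRing V] [IsDomain V] [ValuationRing V] {n : ℕ}
  {NV X Y : Type u} [AddCommGroup NV] [Module (MvPolynomial (Fin n) V) NV] [Module V NV]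
  [IsScalarTower V (MvPolynomial (Fin n) V) NV] [AddCommGroup X] [Module V X] [AddCommGroup Y] [Module V Y]

/-- Finitely many scalars and a given one have a divisor among them. -/
theorem exists_dvd_all {ι : Type*} (a : V) (β : ι → V) (F : Finset ι) :
    ∃ b, (b = a ∨ ∃ i ∈ F, b = β i ∧ β i ≠ 0) ∧ b ∣ a ∧ ∀ i ∈ F, b ∣ β i := by
  classical
  induction F using Finset.induction with
  | empty => exact ⟨a, Or.inl rfl, dvd_rfl, fun i hi => absurd hi (Finset.notMem_empty i)⟩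
  | insert i F hi ih =>
    obtain ⟨b, hb, hba, hbF⟩ := ih
    by_cases h : b ∣ β i
    · refine ⟨b, hb.imp_right (fun ⟨k, hk, h'⟩ => ⟨k, Finset.mem_insert_of_mem hk, h'⟩), hba, fun k hk => ?_⟩
      rcases Finset.mem_insert.1 hk with rfl | hk
      exacts [h, hbF k hk]
    · have h2 : β i ∣ b := (ValuationRing.dvd_total b (β i)).resolve_left h
      refine ⟨β i, Or.inr ⟨i, Finset.mem_insert_self _ _, rfl, fun h0 => h (h0 ▸ dvd_zero b)⟩, h2.trans hba,
        fun k hk => ?_⟩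
      rcases Finset.mem_insert.1 hk with rfl | hk
      exacts [dvd_rfl, h2.trans (hbF k hk)]

variable [Module.FinitePresentation (MvPolynomial (Fin n) V) NV] (D : Datum V n NV X Y)

theorem content_contradiction (Q : Ideal (MvPolynomial (Fin n) V)) [Q.IsPrime]
    (hQm : Q.comap (algebraMap V (MvPolynomial (Fin n) V)) = maximalIdeal V) (hQT : ∀ t ∈ D.T, t ∉ Q)
    {s t : MvPolynomial (Fin n) V} (ht : t ∈ D.T) {f g h : NV} {b c : V} (hb : b ≠ 0)
    (hsf : s • f = b • g) (hg : ∀ s' ∉ Q, s' • g ∉ maximalIdeal V • (⊤ : Submodule V NV))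
    (hc : c ∈ maximalIdeal V) (htf : t • f = (b * c) • h) : False := by
  have h1 : b • (t • g - c • (s • h)) = 0 := by
    rw [smul_sub, ← smul_comm t b g, ← hsf, ← mul_smul b c, ← smul_comm s (b * c) h, ← htf, smul_comm t s f,
      sub_self]
  obtain ⟨w, hw, hwh⟩ := cancel_at D Q hQm hQT hb h1
  refine hg (w * t) (fun hmem => ((inferInstance : Q.IsPrime).mem_or_mem hmem).elim hw (hQT t ht)) ?_
  rw [smul_sub, sub_eq_zero] at hwh
  rw [mul_smul, hwh, smul_comm]
  exact Submodule.smul_mem_smul hc trivial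

/-- **A kernel element has no content which is deep at the closed point.** -/
theorem not_kernel (z : X) (hz : D.u z = 0) (e : X ≃ₗ[V] X) (f : NV) (hez : e z = D.ι f)
    (Q0 : Ideal (MvPolynomial (Fin n) V)) [Q0.IsPrime]
    (hQm0 : Q0.comap (algebraMap V (MvPolynomial (Fin n) V)) = maximalIdeal V) (hQT0 : ∀ t ∈ D.T, t ∉ Q0)
    (s0 : MvPolynomial (Fin n) V) {a : V} (g0 : NV) (ha : a ≠ 0) (hsf0 : s0 • f = a • g0)
    (hg0 : ∀ s' ∉ Q0, s' • g0 ∉ maximalIdeal V • (⊤ : Submodule V NV))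
    (hdeep : ∀ c ∈ maximalIdeal V, ∃ j : ℕ, a ∣ c ^ j) : False := by
  classical
  let S := MvPolynomial (Fin n) V
  let P : S → Prop := fun s => ∃ (b : V) (g : NV), s • f = b • g ∧ (b = 0 ∨ ∃ (Q : Ideal S) (_ : Q.IsPrime),
    Q.comap (algebraMap V S) = maximalIdeal V ∧ (∀ t ∈ D.T, t ∉ Q) ∧
      ∀ s' ∉ Q, s' • g ∉ maximalIdeal V • (⊤ : Submodule V NV))
  obtain ⟨τ, hτT, hτ⟩ : ∃ τ ∈ D.T, τ ∈ Ideal.span {s | P s} ⊔ (maximalIdeal V).map (algebraMap V S) := by
    by_contra! hne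
    obtain ⟨Q, hQ, hle, hQT⟩ := Ideal.exists_le_prime_disjoint _ D.T
      (Set.disjoint_left.2 fun t ht ht' => hne t ht' ht)
    have hQT' : ∀ t ∈ D.T, t ∉ Q := fun t ht htQ => Set.disjoint_left.1 hQT htQ ht
    have hQm : Q.comap (algebraMap V S) = maximalIdeal V :=
      ((maximalIdeal.isMaximal V).eq_of_le (Ideal.IsPrime.comap _).ne_top
        (Ideal.map_le_iff_le_comap.1 (le_sup_right.trans hle))).symm
    obtain ⟨s, hs, b, g, hsg, hb⟩ := content_at D Q hQm hQT' f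
    exact hs (hle (Ideal.mem_sup_left (Ideal.subset_span
      ⟨b, g, hsg, hb.imp_right fun h => ⟨Q, hQ, hQm, hQT', h⟩⟩)))
  obtain ⟨σ, hσ, w, hw, hστ⟩ := Submodule.mem_sup.1 hτ
  obtain ⟨F, hF, hσF⟩ := Submodule.mem_span_finite_of_mem_span hσ
  obtain ⟨c, hc, w', rfl⟩ := exists_smul_eq hw
  obtain ⟨j, hj⟩ := hdeep c hc
  choose β γ hβ using fun s : F => hF s.2
  obtain ⟨b, hb, hba, hbF⟩ := exists_dvd_all a β Finset.univ
  have hb0 : b ≠ 0 := ne_zero_of_dvd_ne_zero ha hba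
  -- the multiples of f divisible by b
  let J : Ideal S := (LinearMap.range (algebraMap V S b • (LinearMap.id : NV →ₗ[S] NV))).comap
    (LinearMap.toSpanSingleton S NV f)
  have hJ : ∀ r, r ∈ J ↔ ∃ g, r • f = b • g := fun r => by
    simp only [J, Submodule.mem_comap, LinearMap.mem_range, LinearMap.toSpanSingleton_apply,
      LinearMap.smul_apply, LinearMap.id_apply, algebraMap_smul]
    exact ⟨fun ⟨g, hg⟩ => ⟨g, hg.symm⟩, fun ⟨g, hg⟩ => ⟨g, hg.symm⟩⟩
  have hFJ : Ideal.span (F : Set S) ≤ J := Ideal.span_le.2 fun s hs => by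
    rw [SetLike.mem_coe, hJ]
    obtain ⟨d, hd⟩ := hbF ⟨s, hs⟩ (Finset.mem_univ _)
    exact ⟨d • γ ⟨s, hs⟩, by rw [(hβ ⟨s, hs⟩).1, hd, mul_smul]⟩
  have hwJ : (c • w') ^ j ∈ J := by
    rw [hJ]
    obtain ⟨d, hd⟩ := hba.trans hj
    exact ⟨d • (w' ^ j • f), by rw [smul_pow, hd, smul_assoc, mul_smul]⟩
  have hτJ : τ ^ j ∈ J := by
    have h1 : τ ^ j - (c • w') ^ j ∈ J := by
      refine hFJ ?_
      obtain ⟨d, hd⟩ := sub_dvd_pow_sub_pow τ (c • w') j
      rw [hd]
      refine Ideal.mul_mem_right _ _ ?_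
      rw [← hστ, add_sub_cancel_right]
      exact hσF
    simpa using J.add_mem h1 hwJ
  obtain ⟨g, hg⟩ := (hJ _).1 hτJ
  obtain ⟨e', he'⟩ := D.act _ (D.T.pow_mem hτT j)
  let y' := (e.trans e').symm (D.ι g)
  have hzy : z = b • y' := by
    apply (e.trans e').injective
    rw [map_smul]
    show e' (e z) = b • (e.trans e') y'
    rw [LinearEquiv.apply_symm_apply, hez, ← he', hg, map_smul]
  have huy : D.u y' = 0 := D.cancel b _ hb0 (by rw [← map_smul, ← hzy, hz])
  obtain ⟨c', hc', y'', hy''⟩ := D.ker _ huy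
  have hιf : D.ι f = (b * c') • e y'' := by
    rw [← hez, hzy, hy'', map_smul, map_smul, mul_smul]
  obtain ⟨t, ht, h, htf⟩ := D.div _ _ _ hιf
  rcases hb with rfl | ⟨s, -, rfl, hs0⟩
  · exact content_contradiction D Q0 hQm0 hQT0 ht hb0 hsf0 hg0 hc' htf
  · obtain ⟨Q, hQ, hQm, hQT, hg'⟩ := (hβ s).2.resolve_left hs0
    exact content_contradiction D Q hQm hQT ht hb0 (hβ s).1 hg' hc' htf

end GrothLib.RG6.InjMod
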