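import Groth.Agent.Lib.RG6.InjMod.Inst
import Groth.Agent.Lib.RG6.InjMod.Localize
import Groth.Agent.Lib.RG6.InjMod.NotKernel

/-!
# Generisation of a content to a smaller prime of the valuation ring
-/

set_option autoImplicit false
set_option linter.style.haveILetI false
set_option linter.unusedSectionVars false
set_option maxHeartbeats 800000

universe u

open TensorProduct IsLocalRing

attribute [local instance] MvPolynomial.algebraMvPolynomial

namespace GrothLib.RG6.InjMod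

variable {A : Type u} [CommRing A] {n : ℕ}
  (N : Type u) [AddCommGroup N] [Module (Poly n A) N] [Module A N] [IsScalarTower A (Poly n A) N]
  (q : Ideal (Poly n A)) [q.IsPrime] {M : Type u} [AddCommGroup M] [Module A M]
  (u : Nq N q →ₗ[A] M)

theorem act_map {C C' : Type u} [CommRing C] [Algebra A C] [CommRing C'] [Algebra A C'] (φ : C →ₐ[A] C')
    (t : Poly n A) (z : C ⊗[A] Nq N q) :
    φ.toLinearMap.rTensor (Nq N q) (act N q C t z) = act N q C' t (φ.toLinearMap.rTensor (Nq N q) z) := by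
  induction z using TensorProduct.induction_on with
  | zero => simp
  | add a b ha hb => simp only [map_add, ha, hb]
  | tmul d x => rfl

theorem smul_map {C C' : Type u} [CommRing C] [Algebra A C] [CommRing C'] [Algebra A C'] (φ : C →ₐ[A] C')
    (c : C) (z : C ⊗[A] Nq N q) :
    φ.toLinearMap.rTensor (Nq N q) (c • z) = φ c • φ.toLinearMap.rTensor (Nq N q) z := by
  induction z using TensorProduct.induction_on with
  | zero => simp
  | add a b ha hb => simp only [smul_add, map_add, ha, hb]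
  | tmul d x => simp [TensorProduct.smul_tmul']

variable [Module.Flat A M] [Module.FinitePresentation (Poly n A) N]
  (V V' : Type u) [CommRing V] [IsDomain V] [ValuationRing V] [Algebra A V]
  [CommRing V'] [IsDomain V'] [ValuationRing V'] [Algebra A V'] [Algebra V V'] [IsScalarTower A V V']
  (𝔓 : Ideal V) [𝔓.IsPrime] [IsLocalization.AtPrime V' 𝔓]

theorem generise_false (hV : Good u (ResidueField V)) (hV' : Good u (ResidueField V'))
    (t : Poly n A) (ht : t ∉ q) (z : V ⊗[A] Nq N q) (hz : u.lTensor V z = 0) (f : NC A n N V)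
    (hzf : act N q V t z = ι N q V f)
    (Q : Ideal (Poly n V)) [Q.IsPrime] (hQm : Q.comap (algebraMap V (Poly n V)) = maximalIdeal V)
    (hQT : ∀ t : Poly n A, t ∉ q → algebraMap (Poly n A) (Poly n V) t ∉ Q)
    (s : Poly n V) (hs : s ∉ Q) (a : V) (g : NC A n N V) (ha0 : a ≠ 0) (hsf : s • f = a • g)
    (hg : ∀ s' ∉ Q, s' • g ∉ maximalIdeal V • (⊤ : Submodule V (NC A n N V)))
    (hdeep : ∀ p ∈ 𝔓, ∃ j : ℕ, a ∣ p ^ j) : False := by
  classical
  let PV := Poly n V
  let PV' := Poly n V'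
  let φ := IsScalarTower.toAlgHom A V V'
  let D := datum N q u V hV
  have hDT : ∀ t ∈ D.T, t ∉ Q := by
    rintro _ ⟨t, ht, rfl⟩
    exact hQT t ht
  have hinj : Function.Injective (algebraMap V V') :=
    IsLocalization.injective V' 𝔓.primeCompl_le_nonZeroDivisors
  -- the bad multipliers of g
  let I : Ideal PV :=
    { carrier := {r | r • g ∈ 𝔓 • (⊤ : Submodule V (NC A n N V))}
      zero_mem' := by
        show (0 : PV) • g ∈ 𝔓 • (⊤ : Submodule V (NC A n N V))
        rw [zero_smul]; exact zero_mem _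
      add_mem' := fun {x y} hx hy => by
        show (x + y) • g ∈ 𝔓 • (⊤ : Submodule V (NC A n N V))
        rw [add_smul]; exact add_mem hx hy
      smul_mem' := fun x r hr => by
        obtain ⟨p, hp, h, hh⟩ := exists_mem_smul (A := V) hr
        show (x * r) • g ∈ 𝔓 • (⊤ : Submodule V (NC A n N V))
        rw [mul_smul, hh, smul_comm]
        exact Submodule.smul_mem_smul hp trivial }
  have hI : ∀ r, r ∈ I ↔ r • g ∈ 𝔓 • (⊤ : Submodule V (NC A n N V)) := fun r => Iff.rfl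
  let S : Submonoid PV := 𝔓.primeCompl.map (algebraMap V PV) ⊔ Q.primeCompl
  have hIS : Disjoint (I : Set PV) S := by
    refine Set.disjoint_left.2 fun x hx hxS => ?_
    obtain ⟨_, ⟨w, hw, rfl⟩, s', hs', rfl⟩ := Submonoid.mem_sup.1 hxS
    obtain ⟨p, hp, h, hh⟩ := exists_mem_smul ((hI _).1 hx)
    rw [mul_smul, algebraMap_smul] at hh
    have hpw : ¬ p ∣ w := fun ⟨d, hd⟩ => hw (hd ▸ 𝔓.mul_mem_right d hp)
    obtain ⟨p₁, rfl⟩ := (ValuationRing.dvd_total p w).resolve_left hpw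
    have hp1 : p₁ ∈ 𝔓 := ((inferInstance : 𝔓.IsPrime).mem_or_mem hp).resolve_left hw
    have hw0 : w ≠ 0 := fun h0 => hw (h0 ▸ zero_mem _)
    have h1 : w • (s' • g - p₁ • h) = 0 :=
      (smul_sub w (s' • g) (p₁ • h)).trans (by rw [hh, mul_smul, sub_self])
    obtain ⟨s'', hs'', h2⟩ := cancel_at D Q hQm hDT hw0 h1
    replace h2 : s'' • (s' • g) = s'' • (p₁ • h) := sub_eq_zero.1 ((smul_sub s'' _ _).symm.trans h2)
    refine hg (s'' * s') (Q.primeCompl.mul_mem hs'' hs') ?_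
    rw [mul_smul, h2, smul_comm]
    exact Submodule.smul_mem_smul (IsLocalRing.le_maximalIdeal (‹𝔓.IsPrime›).ne_top hp1) trivial
  obtain ⟨Q', hQ', hIQ', hQ'S⟩ := Ideal.exists_le_prime_disjoint I S hIS
  have hQ'S' : ∀ x ∈ S, x ∉ Q' := fun x hx hx' => Set.disjoint_left.1 hQ'S hx' hx
  have hQ'Q : Q' ≤ Q := fun x hx => by
    by_contra h
    exact hQ'S' x (Submonoid.mem_sup_right h) hx
  have h𝔓Q' : ∀ p ∈ 𝔓, algebraMap V PV p ∈ Q' := fun p hp => hIQ' ((hI _).2 (by
    rw [algebraMap_smul]; exact Submodule.smul_mem_smul hp trivial))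
  let SV : Submonoid PV := 𝔓.primeCompl.map (MvPolynomial.C (σ := Fin n))
  have hdis : Disjoint (SV : Set PV) Q' := Set.disjoint_left.2 fun x hx hx' =>
    hQ'S' x (Submonoid.mem_sup_left hx) hx'
  let Q'' : Ideal PV' := Q'.map (algebraMap PV PV')
  haveI hQ'' : Q''.IsPrime := IsLocalization.isPrime_of_isPrime_disjoint SV PV' Q' hQ' hdis
  have hQ''c : Q''.comap (algebraMap PV PV') = Q' :=
    IsLocalization.comap_map_of_isPrime_disjoint SV PV' hQ' hdis
  have hcC : ∀ v : V, algebraMap PV PV' (algebraMap V PV v) = algebraMap V' PV' (algebraMap V V' v) :=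
    fun v => MvPolynomial.map_C _ _
  have hQ''m : Q''.comap (algebraMap V' PV') = maximalIdeal V' := by
    refine ((maximalIdeal.isMaximal V').eq_of_le (Ideal.IsPrime.comap _).ne_top fun x hx => ?_).symm
    obtain ⟨⟨p, w⟩, hpw⟩ := IsLocalization.surj 𝔓.primeCompl x
    rw [Ideal.mem_comap]
    have hp : p ∈ 𝔓 := by
      rw [← IsLocalization.AtPrime.to_map_mem_maximal_iff V' 𝔓, ← hpw]
      exact Ideal.mul_mem_right _ _ hx
    have h1 : algebraMap V' PV' x * algebraMap V' PV' (algebraMap V V' w) ∈ Q'' := by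
      rw [← map_mul, hpw, ← hcC]
      exact Ideal.mem_map_of_mem _ (h𝔓Q' p hp)
    refine (hQ''.mem_or_mem h1).resolve_right fun hw => ?_
    rw [← hcC, ← Ideal.mem_comap, hQ''c] at hw
    exact hQ'S' _ (Submonoid.mem_sup_left ⟨w, w.2, rfl⟩) hw
  let D' := datum N q u V' hV'
  have hD'T : ∀ t ∈ D'.T, t ∉ Q'' := by
    rintro _ ⟨t, ht, rfl⟩ h
    rw [IsScalarTower.algebraMap_apply (Poly n A) PV PV', ← Ideal.mem_comap, hQ''c] at h
    exact hQT t ht (hQ'Q h)
  refine not_kernel D' (φ.toLinearMap.rTensor (Nq N q) z) ?_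
    (LinearEquiv.ofBijective (act N q V' t) (act_bijective N q V' ht)) (mapN N φ f) ?_ Q'' hQ''m hD'T
    (algebraMap PV PV' s) (a := algebraMap V V' a) (mapN N φ g) ?_ ?_ ?_ ?_
  · show u.lTensor V' (φ.toLinearMap.rTensor (Nq N q) z) = 0
    rw [lTensor_rTensor_comm, hz, map_zero]
  · show act N q V' t (φ.toLinearMap.rTensor (Nq N q) z) = ι N q V' (mapN N φ f)
    rw [← act_map, hzf, ι_mapN]
  · exact fun h => ha0 (hinj (h.trans (map_zero _).symm))
  · calc algebraMap PV PV' s • mapN N φ f = mapN N φ (s • f) := (mapN_smul N φ s f).symm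
      _ = algebraMap V V' a • mapN N φ g := by rw [hsf, mapN_smul']; rfl
  · intro r hr hmem
    obtain ⟨c, hc, h, hh⟩ := exists_mem_smul hmem
    obtain ⟨⟨r₀, ⟨_, w₀, hw₀, rfl⟩⟩, hr₀⟩ := IsLocalization.surj SV r
    obtain ⟨⟨p, w₁⟩, hc₁⟩ := IsLocalization.surj 𝔓.primeCompl c
    obtain ⟨hsurj, hker⟩ := mapN_localization (A := A) (n := n) N V V' 𝔓.primeCompl
    obtain ⟨w₂, hw₂, h₀, hh₀⟩ := hsurj h
    have hp : p ∈ 𝔓 := by
      rw [← IsLocalization.AtPrime.to_map_mem_maximal_iff V' 𝔓, ← hc₁]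
      exact Ideal.mul_mem_right _ _ hc
    have e : mapN N φ ((w₁ * w₂ : V) • (r₀ • g)) = mapN N φ ((p * w₀) • h₀) := by
      change mapN N φ h₀ = algebraMap V V' w₂ • h at hh₀
      rw [mapN_smul', mapN_smul', mapN_smul, hh₀]
      show algebraMap V V' (w₁ * w₂) • algebraMap PV PV' r₀ • mapN N φ g = _
      rw [← hr₀, show algebraMap PV PV' (MvPolynomial.C w₀) = algebraMap V' PV' (algebraMap V V' w₀) from
        MvPolynomial.map_C _ _, mul_comm r, mul_smul, algebraMap_smul, hh]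
      show _ = algebraMap V V' (p * w₀) • algebraMap V V' w₂ • h
      rw [map_mul, map_mul, ← hc₁, ← mul_smul, ← mul_smul]
      refine Eq.trans ?_ (mul_smul (c * algebraMap V V' w₁ * algebraMap V V' w₀) (algebraMap V V' w₂) h)
      congr 1
      ring
    obtain ⟨w₃, hw₃, h3⟩ := hker _ (by rw [map_sub, e, sub_self] :
      mapN N φ ((w₁ * w₂ : V) • (r₀ • g) - (p * w₀) • h₀) = 0)
    replace h3 : w₃ • ((w₁ * w₂ : V) • (r₀ • g)) = w₃ • ((p * w₀) • h₀) :=
      sub_eq_zero.1 ((smul_sub w₃ ((w₁ * w₂ : V) • (r₀ • g)) ((p * w₀) • h₀)).symm.trans h3)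
    have hI0 : algebraMap V PV (w₃ * (w₁ * w₂)) * r₀ ∈ I := by
      rw [hI, mul_smul, algebraMap_smul, mul_smul, h3, ← mul_smul w₃ (p * w₀) h₀]
      exact Submodule.smul_mem_smul (𝔓.mul_mem_left _ (𝔓.mul_mem_right _ hp)) trivial
    have hr0 : r₀ ∈ Q' := ((hQ'.mem_or_mem (hIQ' hI0))).resolve_left fun hm =>
      hQ'S' _ (Submonoid.mem_sup_left ⟨_, 𝔓.primeCompl.mul_mem hw₃ (𝔓.primeCompl.mul_mem w₁.2 hw₂), rfl⟩) hm
    have h4 : r * algebraMap PV PV' (MvPolynomial.C w₀) ∈ Q'' := hr₀ ▸ Ideal.mem_map_of_mem _ hr0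
    refine hr ((hQ''.mem_or_mem h4).resolve_right fun hw => ?_)
    rw [← Ideal.mem_comap, hQ''c] at hw
    exact hQ'S' _ (Submonoid.mem_sup_left ⟨w₀, hw₀, rfl⟩) hw
  · intro c hc
    obtain ⟨⟨p, w⟩, hpw⟩ := IsLocalization.surj 𝔓.primeCompl c
    have hp : p ∈ 𝔓 := by
      rw [← IsLocalization.AtPrime.to_map_mem_maximal_iff V' 𝔓, ← hpw]
      exact Ideal.mul_mem_right _ _ hc
    obtain ⟨j, d, hd⟩ := hdeep p hp
    refine ⟨j, (dvd_mul_right _ _ : algebraMap V V' a ∣ algebraMap V V' a * algebraMap V V' d).trans ?_⟩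
    rw [← map_mul, ← hd, map_pow, ← hpw, mul_pow]
    exact (IsUnit.mul_right_dvd ((IsLocalization.map_units V' w).pow j)).2 dvd_rfl

end GrothLib.RG6.InjMod
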