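import Groth.Agent.Lib.RG6.ContentMain
import Groth.Agent.Lib.RG6.Open

/-!
# Models over a valuation ring: flatness and contents
-/

set_option autoImplicit false
set_option backward.isDefEq.respectTransparency false
set_option linter.style.haveILetI false
set_option linter.unusedSectionVars false
set_option maxHeartbeats 200000

universe u

open IsLocalRing

namespace GrothLib.RG6.InjMod

/-- Nakayama at a prime, elementwise. -/
theorem exists_smul_eq_zero_of_nakayama {R : Type u} [CommRing R] (Q : Ideal R) [Q.IsPrime] {W : Type u}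
    [AddCommGroup W] [Module R W] [Module.Finite R W]
    (h : ∀ w : W, ∃ t ∉ Q, ∃ r ∈ Q, ∃ w' : W, t • w = r • w') (w : W) : ∃ s ∉ Q, s • w = 0 := by
  let L := LocalizedModule Q.primeCompl W
  let Sl := Localization.AtPrime Q
  have htop : (⊤ : Submodule Sl L) ≤ maximalIdeal Sl • ⊤ := by
    rintro z -
    induction z using LocalizedModule.induction_on with
    | _ σ s =>
    obtain ⟨t, ht, r, hr, σ', hσ⟩ := h σ
    have hmk : (LocalizedModule.mk σ s : L) = algebraMap R Sl r • LocalizedModule.mk σ' (⟨t, ht⟩ * s) := by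
      rw [algebraMap_smul, LocalizedModule.smul'_mk, LocalizedModule.mk_eq]
      refine ⟨1, ?_⟩
      simp only [one_smul, Submonoid.smul_def, Submonoid.coe_mul]
      rw [mul_comm, mul_smul, hσ]
    rw [hmk]
    exact Submodule.smul_mem_smul ((IsLocalization.AtPrime.to_map_mem_maximal_iff Sl Q _).2 hr) trivial
  have h0 : (⊤ : Submodule Sl L) = ⊥ :=
    Submodule.eq_bot_of_le_smul_of_le_jacobson_bot _ _ Module.Finite.fg_top htop (maximalIdeal_le_jacobson _)
  have h1 : LocalizedModule.mkLinearMap Q.primeCompl W w = 0 := (Submodule.mem_bot Sl).1 (h0 ▸ Submodule.mem_top)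
  obtain ⟨s, hs⟩ := (IsLocalizedModule.eq_zero_iff Q.primeCompl _).1 h1
  exact ⟨s, s.2, hs⟩

variable {V : Type u} [CommRing V] [IsDomain V] [ValuationRing V] {n : ℕ}

/-- A finite model with a localisation into a flat module, injective at the closed point. -/
structure Datum (V : Type u) [CommRing V] [IsLocalRing V] (n : ℕ) (NV X Y : Type u) [AddCommGroup NV]
    [Module (MvPolynomial (Fin n) V) NV] [Module V NV] [AddCommGroup X] [Module V X] [AddCommGroup Y]
    [Module V Y] where
  /-- The multiplicative set. -/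
  T : Submonoid (MvPolynomial (Fin n) V)
  /-- The localisation. -/
  ι : NV →ₗ[V] X
  /-- The map. -/
  u : X →ₗ[V] Y
  eq_zero : ∀ f, ι f = 0 → ∃ t ∈ T, t • f = 0
  div : ∀ f (b : V) x, ι f = b • x → ∃ t ∈ T, ∃ g, t • f = b • g
  act : ∀ t ∈ T, ∃ e : X ≃ₗ[V] X, ∀ f, ι (t • f) = e (ι f)
  ker : ∀ x, u x = 0 → ∃ c ∈ maximalIdeal V, ∃ y, x = c • y
  cancel : ∀ (b : V) (y : Y), b ≠ 0 → b • y = 0 → y = 0

variable {NV X Y : Type u} [AddCommGroup NV] [Module (MvPolynomial (Fin n) V) NV] [Module V NV]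
  [IsScalarTower V (MvPolynomial (Fin n) V) NV] [AddCommGroup X] [Module V X] [AddCommGroup Y] [Module V Y]

variable (V n NV) in
/-- The torsion of the model. -/
def tors : Submodule (MvPolynomial (Fin n) V) NV where
  carrier := {τ | ∃ a : V, a ≠ 0 ∧ a • τ = 0}
  zero_mem' := ⟨1, one_ne_zero, smul_zero _⟩
  add_mem' := fun {x y} ⟨a, ha, hax⟩ ⟨b, hb, hby⟩ => ⟨a * b, mul_ne_zero ha hb, by
    rw [smul_add, mul_comm a b, mul_smul, hax, mul_comm b a, mul_smul, hby, smul_zero, smul_zero, add_zero]⟩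
  smul_mem' := fun r x ⟨a, ha, hax⟩ => ⟨a, ha, by rw [smul_comm, hax, smul_zero]⟩

variable [Module.FinitePresentation (MvPolynomial (Fin n) V) NV]

theorem tors_fg : (tors V n NV).FG := by
  haveI : Module.Flat V (NV ⧸ tors V n NV) := by
    rw [Module.Flat.flat_iff_torsion_eq_bot_of_isBezout, eq_bot_iff]
    rintro z ⟨⟨a, ha⟩, hz⟩
    obtain ⟨g, rfl⟩ := Submodule.mkQ_surjective _ z
    have h1 : (tors V n NV).mkQ (a • g) = 0 := by
      rw [LinearMap.map_smul_of_tower]
      exact hz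
    obtain ⟨b, hb, hbg⟩ := (Submodule.Quotient.mk_eq_zero _).1 h1
    exact (Submodule.Quotient.mk_eq_zero _).2
      ⟨b * a, mul_ne_zero hb (nonZeroDivisors.ne_zero ha), by rw [mul_smul]; exact hbg⟩
  haveI : Module.FinitePresentation (MvPolynomial (Fin n) V) (NV ⧸ tors V n NV) :=
    fp_of_flat (R := V) (S := MvPolynomial (Fin n) V) finite_weakAss_domain _
  have h := Module.FinitePresentation.fg_ker (tors V n NV).mkQ (Submodule.mkQ_surjective _)
  rwa [Submodule.ker_mkQ] at h

variable (D : Datum V n NV X Y) (Q : Ideal (MvPolynomial (Fin n) V)) [Q.IsPrime]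
  (hQm : Q.comap (algebraMap V (MvPolynomial (Fin n) V)) = maximalIdeal V)
  (hQT : ∀ t ∈ D.T, t ∉ Q)

include hQm hQT

theorem tors_local {τ : NV} (hτ : τ ∈ tors V n NV) : ∃ s ∉ Q, s • τ = 0 := by
  haveI : Module.Finite (MvPolynomial (Fin n) V) (tors V n NV) := Module.Finite.iff_fg.2 tors_fg
  obtain ⟨s, hs, h⟩ := exists_smul_eq_zero_of_nakayama Q (W := tors V n NV) (fun σ => by
    obtain ⟨τ, a, ha, haτ⟩ := σ
    have hu : D.u (D.ι τ) = 0 := D.cancel a _ ha (by rw [← map_smul, ← map_smul, haτ, map_zero, map_zero])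
    obtain ⟨c, hc, y, hy⟩ := D.ker _ hu
    obtain ⟨t, ht, g, htg⟩ := D.div _ _ _ hy
    have hcQ : algebraMap V (MvPolynomial (Fin n) V) c ∈ Q := by
      rw [← hQm] at hc
      exact hc
    by_cases hc0 : c = 0
    · refine ⟨t, hQT t ht, 0, zero_mem _, 0, Subtype.ext ?_⟩
      rw [hc0, zero_smul] at htg
      simpa using htg
    · refine ⟨t, hQT t ht, algebraMap V _ c, hcQ, ⟨g, a * c, mul_ne_zero ha hc0, ?_⟩, Subtype.ext ?_⟩
      · rw [mul_smul, ← htg, smul_comm, haτ, smul_zero]
      · show t • τ = algebraMap V (MvPolynomial (Fin n) V) c • g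
        rw [algebraMap_smul, htg]) ⟨τ, hτ⟩
  exact ⟨s, hs, congrArg Subtype.val h⟩

theorem cancel_at {b : V} (hb : b ≠ 0) {h : NV} (hbh : b • h = 0) : ∃ s ∉ Q, s • h = 0 :=
  tors_local D Q hQm hQT ⟨b, hb, hbh⟩

theorem flat_at : Module.Flat V (LocalizedModule Q.primeCompl (NV)) := by
  rw [Module.Flat.flat_iff_torsion_eq_bot_of_isBezout, eq_bot_iff]
  rintro z ⟨⟨a, ha⟩, hz⟩
  induction z using LocalizedModule.induction_on with
  | _ x s =>
  replace hz : LocalizedModule.mk (a • x) s = (0 : LocalizedModule Q.primeCompl (NV)) := by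
    rw [← algebraMap_smul (MvPolynomial (Fin n) V) a x, ← LocalizedModule.smul'_mk, algebraMap_smul]
    exact hz
  rw [← LocalizedModule.zero_mk s, LocalizedModule.mk_eq] at hz
  obtain ⟨u₀, hu₀⟩ := hz
  simp only [smul_zero] at hu₀
  have h1 : a • ((u₀ : MvPolynomial (Fin n) V) • (s : MvPolynomial (Fin n) V) • x) = 0 := by
    rw [smul_comm, smul_comm a (s : MvPolynomial (Fin n) V) x]
    exact hu₀
  obtain ⟨w, hw, hwx⟩ := cancel_at D Q hQm hQT (nonZeroDivisors.ne_zero ha) h1
  rw [Submodule.mem_bot, ← LocalizedModule.zero_mk s, LocalizedModule.mk_eq]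
  refine ⟨⟨w, hw⟩ * u₀, ?_⟩
  simp only [smul_zero, Submonoid.smul_def, mul_smul]
  exact hwx

theorem content_at (f : NV) : ∃ s ∉ Q, ∃ (b : V) (g : NV), s • f = b • g ∧
    (b = 0 ∨ ∀ s' ∉ Q, s' • g ∉ maximalIdeal V • (⊤ : Submodule V (NV))) := by
  haveI : Module.Flat V (LocalizedModule Q.primeCompl (NV)) := flat_at D Q hQm hQT
  have hc : HasContent V (LocalizedModule.mkLinearMap Q.primeCompl (NV) f) :=
    content_etale n (R := V) (P := MvPolynomial (Fin n) V) (NV) Q hQm inferInstance _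
  obtain ⟨b, y, hy, hb⟩ := hc
  induction y using LocalizedModule.induction_on with
  | _ g s =>
  have hy' : (LocalizedModule.mk f 1 : LocalizedModule Q.primeCompl (NV)) = LocalizedModule.mk (b • g) s := by
    rw [← algebraMap_smul (MvPolynomial (Fin n) V) b g, ← LocalizedModule.smul'_mk, algebraMap_smul]
    exact hy
  obtain ⟨w, hw⟩ := LocalizedModule.mk_eq.1 hy'
  simp only [one_smul, Submonoid.smul_def] at hw
  refine ⟨w * s, Q.primeCompl.mul_mem w.2 s.2, b, (w : MvPolynomial (Fin n) V) • g, ?_, hb.imp_right fun hb s' hs' hmem => hb ?_⟩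
  · rw [mul_smul, hw, smul_comm]
  · obtain ⟨c, hc, h, hh⟩ := exists_mem_smul hmem
    have e : (LocalizedModule.mk g s : LocalizedModule Q.primeCompl (NV)) =
        c • LocalizedModule.mk h (⟨s', hs'⟩ * w * s) := by
      rw [← algebraMap_smul (MvPolynomial (Fin n) V) c (LocalizedModule.mk h _), LocalizedModule.smul'_mk, LocalizedModule.mk_eq,
        algebraMap_smul, ← hh]
      refine ⟨1, ?_⟩
      simp only [one_smul, Submonoid.smul_def, mul_smul]
      rw [smul_comm (s : MvPolynomial (Fin n) V) s', smul_comm (s : MvPolynomial (Fin n) V) (w : MvPolynomial (Fin n) V)]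
    rw [e]
    exact Submodule.smul_mem_smul hc trivial

end GrothLib.RG6.InjMod
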