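import Groth.Agent.Lib.RG6.InjMod.Model
import Groth.Agent.Lib.RG6.InjMod.Base
import Groth.Agent.Lib.RG6.InjMod.Torsion

/-!
# The datum of a base change to a valuation ring
-/

set_option autoImplicit false
set_option linter.style.haveILetI false
set_option linter.unusedSectionVars false

universe u

open TensorProduct IsLocalRing

attribute [local instance] MvPolynomial.algebraMvPolynomial

namespace GrothLib.RG6.InjMod

variable {A : Type u} [CommRing A] {n : ℕ}
  (N : Type u) [AddCommGroup N] [Module (Poly n A) N] [Module A N] [IsScalarTower A (Poly n A) N]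
  (q : Ideal (Poly n A)) [q.IsPrime] {M : Type u} [AddCommGroup M] [Module A M]
  (u : Nq N q →ₗ[A] M)
  (V : Type u) [CommRing V] [IsDomain V] [ValuationRing V] [Algebra A V]

/-- An element of the kernel is divisible by an element of the maximal ideal. -/
theorem exists_smul_of_kernel (hV : Good u (ResidueField V)) {x : V ⊗[A] Nq N q}
    (hx : u.lTensor V x = 0) : ∃ c ∈ maximalIdeal V, ∃ y, x = c • y := by
  let π : V →ₗ[A] ResidueField V := (Algebra.linearMap V (ResidueField V)).restrictScalars A
  let i : maximalIdeal V →ₗ[A] V := (maximalIdeal V).subtype.restrictScalars A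
  have hex : Function.Exact i π := by
    intro v
    show residue V v = 0 ↔ _
    rw [residue_eq_zero_iff]
    exact ⟨fun h => ⟨⟨v, h⟩, rfl⟩, fun ⟨w, hw⟩ => hw ▸ w.2⟩
  have h1 : π.rTensor (Nq N q) x = 0 := hV (by rw [lTensor_rTensor_comm, hx, map_zero, map_zero])
  obtain ⟨z, rfl⟩ := ((rTensor_exact (Nq N q) hex residue_surjective) x).1 h1
  refine exists_mem_smul (A := V) (X := V ⊗[A] Nq N q) (J := maximalIdeal V) ?_
  clear hx h1
  induction z using TensorProduct.induction_on with
  | zero => simp
  | add a b ha hb => rw [map_add]; exact add_mem ha hb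
  | tmul c y =>
    rw [LinearMap.rTensor_tmul, show i c ⊗ₜ[A] y = (c : V) • ((1 : V) ⊗ₜ[A] y) by
      rw [TensorProduct.smul_tmul', smul_eq_mul, mul_one]; rfl]
    exact Submodule.smul_mem_smul c.2 trivial

/-- Kernel of a multiple. -/
theorem lTensor_eq_zero_of_smul [Module.Flat A M] {b : V} (hb : b ≠ 0) {x : V ⊗[A] Nq N q}
    (h : u.lTensor V (b • x) = 0) : u.lTensor V x = 0 := by
  have h1 : b • u.baseChange V x = 0 := by rw [← map_smul]; exact h
  exact Module.Flat.isSMulRegular_of_nonZeroDivisors (R := V) (mem_nonZeroDivisors_of_ne_zero hb)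
    (h1.trans (smul_zero b).symm)

/-- The datum. -/
noncomputable def datum [Module.Flat A M] (hV : Good u (ResidueField V)) : Datum V n (NC A n N V) (V ⊗[A] Nq N q) (V ⊗[A] M) where
  T := q.primeCompl.map (algebraMap (Poly n A) (Poly n V))
  ι := ι N q V
  u := u.baseChange V
  eq_zero f hf := by
    obtain ⟨t, ht, h⟩ := exists_smul_eq_zero N q V hf
    exact ⟨_, ⟨t, ht, rfl⟩, (algebraMap_smul (Poly n V) t f).trans h⟩
  div f b x hf := by
    obtain ⟨t, ht, g, h⟩ := exists_smul_eq_of_ι_eq N q V hf
    exact ⟨_, ⟨t, ht, rfl⟩, g, (algebraMap_smul (Poly n V) t f).trans h⟩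
  act := by
    rintro _ ⟨t, ht, rfl⟩
    exact ⟨LinearEquiv.ofBijective (act N q V t) (act_bijective N q V ht), fun f => by
      rw [algebraMap_smul, ι_smul]; rfl⟩
  ker x hx := exists_smul_of_kernel N q u V hV hx
  cancel b y hb h :=
    haveI : Module.Flat V (V ⊗[A] M) := Module.Flat.baseChange ..
    Module.Flat.isSMulRegular_of_nonZeroDivisors (R := V) (M := V ⊗[A] M)
      (mem_nonZeroDivisors_of_ne_zero hb) (h.trans (smul_zero b).symm)

instance fp_NC (C : Type u) [CommRing C] [Algebra A C] [Module.FinitePresentation (Poly n A) N] :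
    Module.FinitePresentation (Poly n C) (NC A n N C) := inferInstance

end GrothLib.RG6.InjMod
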