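import Groth.Agent.Lib.RG6.InjMod.MaxBad
import Groth.Agent.Lib.NagataFP.Global
import Groth.Agent.Lib.FibreUnivInj.Basic

/-!
# Base change of the local module as a localisation
-/

set_option autoImplicit false
set_option linter.style.haveILetI false
set_option linter.unusedSectionVars false
set_option maxHeartbeats 400000

universe u

open TensorProduct IsLocalRing

attribute [local instance] MvPolynomial.algebraMvPolynomial

namespace GrothLib.RG6.InjMod

variable {A : Type u} [CommRing A] {n : ℕ}
  (N : Type u) [AddCommGroup N] [Module (Poly n A) N] [Module A N] [IsScalarTower A (Poly n A) N]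
  (q : Ideal (Poly n A)) [q.IsPrime] {M : Type u} [AddCommGroup M] [Module A M]
  (u : Nq N q →ₗ[A] M) (C : Type u) [CommRing C] [Algebra A C]

/-- The localisation map of the model, linear over polynomials. -/
noncomputable def loc : NC A n N C →ₗ[Poly n C] Poly n C ⊗[Poly n A] Nq N q :=
  AlgebraTensorModule.lTensor (Poly n C) (Poly n C) (LocalizedModule.mkLinearMap q.primeCompl N)

theorem eC_loc (f : NC A n N C) : eC N q C (loc N q C f) = ι N q C f := rfl

/-- The multiplicative set. -/
noncomputable def TC : Submonoid (Poly n C) := q.primeCompl.map (algebraMap (Poly n A) (Poly n C))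

instance isLocalizedModule_loc : IsLocalizedModule (TC q C) (loc N q C) := by
  have hsm : ∀ (t : Poly n A) (z : Poly n C ⊗[Poly n A] Nq N q),
      eC N q C (algebraMap (Poly n A) (Poly n C) t • z) = act N q C t (eC N q C z) := fun t z => by
    rw [algebraMap_smul, eC_smul]
  refine ⟨fun x => ?_, fun y => ?_, fun {x₁ x₂} hxy => ?_⟩
  · obtain ⟨_, t, ht, rfl⟩ := x
    rw [Module.End.isUnit_iff]
    have hb := act_bijective N q C ht
    refine ⟨fun a b hab => (eC N q C).injective (hb.1 ?_), fun y => ?_⟩
    · rw [← hsm, ← hsm]
      exact congrArg (eC N q C) hab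
    · obtain ⟨z, hz⟩ := hb.2 (eC N q C y)
      refine ⟨(eC N q C).symm z, (eC N q C).injective ?_⟩
      show eC N q C (algebraMap (Poly n A) (Poly n C) t • (eC N q C).symm z) = eC N q C y
      rw [hsm, LinearEquiv.apply_symm_apply, hz]
  · obtain ⟨t, ht, f, hf⟩ := exists_act_eq_ι N q C (eC N q C y)
    refine ⟨⟨f, ⟨_, t, ht, rfl⟩⟩, (eC N q C).injective ?_⟩
    rw [eC_loc, ← hf]
    exact hsm t y
  · obtain ⟨t, ht, h⟩ := exists_smul_eq_zero N q C (f := x₁ - x₂) (by
      rw [map_sub, ← eC_loc, ← eC_loc, hxy, sub_self])
    refine ⟨⟨_, t, ht, rfl⟩, ?_⟩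
    show algebraMap (Poly n A) (Poly n C) t • x₁ = algebraMap (Poly n A) (Poly n C) t • x₂
    rw [algebraMap_smul, algebraMap_smul, ← sub_eq_zero, ← smul_sub]
    exact h

theorem flat_loc [Module.Flat C (NC A n N C)] : Module.Flat C (Poly n C ⊗[Poly n A] Nq N q) := by
  haveI := GrothLib.NagataFP.flat_localized (R := C) (M := NC A n N C) (TC q C)
  exact Module.Flat.of_linearEquiv ((IsLocalizedModule.linearEquiv (TC q C)
    (LocalizedModule.mkLinearMap (TC q C) (NC A n N C)) (loc N q C)).symm.restrictScalars C)

theorem flat_baseChange_local [Module.Flat C (NC A n N C)] : Module.Flat C (C ⊗[A] Nq N q) :=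
  haveI := flat_loc N q C
  Module.Flat.of_linearEquiv (eC N q C).symm

/-- Where the model is flat and all points are good, the map stays injective. -/
theorem good_of_flat [Module.Flat A M] [Module.FinitePresentation (Poly n A) N] [Module.Flat C (NC A n N C)]
    (hC : ∀ (p : Ideal C) [p.IsPrime], Good u p.ResidueField) : Good u C := by
  haveI := flat_loc N q C
  haveI : Module.Flat C (C ⊗[A] M) := Module.Flat.baseChange ..
  let u' : Poly n C ⊗[Poly n A] Nq N q →ₗ[C] C ⊗[A] M := u.baseChange C ∘ₗ (eC N q C).toLinearMap
  have h : ∀ (Q : Type u) [AddCommGroup Q] [Module C Q], Function.Injective (u'.lTensor Q) := by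
    intro Q _ _
    refine GrothLib.FibreUnivInj.univInj (TC q C) (loc N q C) u' (fun p _ => ?_) Q
    let κ := p.ResidueField
    let eX := (LinearEquiv.lTensor κ (eC N q C)).trans
      ((AlgebraTensorModule.cancelBaseChange A C C κ (Nq N q)))
    let eY := AlgebraTensorModule.cancelBaseChange A C C κ M
    have hkey : ∀ z, eY (u'.lTensor κ z) = u.lTensor κ (eX z) := fun z => by
      induction z using TensorProduct.induction_on with
      | zero => simp
      | add a b ha hb => simp only [map_add, ha, hb]
      | tmul a w =>
        simp only [u', eX, eY, LinearMap.lTensor_tmul, LinearMap.comp_apply, LinearEquiv.coe_coe,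
          LinearEquiv.trans_apply, LinearEquiv.lTensor_tmul]
        generalize eC N q C w = v
        induction v using TensorProduct.induction_on with
        | zero => simp
        | add a b ha hb => simp only [TensorProduct.tmul_add, map_add, ha, hb]
        | tmul c x => simp
    intro a b hab
    exact eX.injective (hC p (by rw [← hkey, ← hkey, hab]))
  intro a b hab
  have h1 : u'.lTensor C (1 ⊗ₜ[C] (eC N q C).symm a) = u'.lTensor C (1 ⊗ₜ[C] (eC N q C).symm b) := by
    simp only [u', LinearMap.lTensor_tmul, LinearMap.comp_apply, LinearEquiv.coe_coe, LinearEquiv.apply_symm_apply]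
    exact congrArg ((1 : C) ⊗ₜ[C] ·) hab
  have h2 := congrArg (TensorProduct.lid C _) (h C h1)
  simpa using h2

/-- Purity over a base change. -/
theorem good_baseChange (B : Type u) [CommRing B] [Algebra A B]
    (h : ∀ (X : Type u) [AddCommGroup X] [Module A X], (∀ a ∈ RingHom.ker (algebraMap A B), ∀ x : X, a • x = 0) →
      Good u X) (X : Type u) [AddCommGroup X] [Module B X] : Good (u.baseChange B) X := by
  letI : Module A X := Module.compHom X (algebraMap A B)
  haveI : IsScalarTower A B X := IsScalarTower.of_algebraMap_smul fun a x => rfl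
  have hX := h X fun a ha x => by
    show algebraMap A B a • x = 0
    rw [RingHom.mem_ker.1 ha, zero_smul]
  let eX := AlgebraTensorModule.cancelBaseChange A B B X (Nq N q)
  let eY := AlgebraTensorModule.cancelBaseChange A B B X M
  have hkey : ∀ z, eY ((u.baseChange B).lTensor X z) = u.lTensor X (eX z) := fun z => by
    induction z using TensorProduct.induction_on with
    | zero => simp
    | add a b ha hb => simp only [map_add, ha, hb]
    | tmul a w =>
      induction w using TensorProduct.induction_on with
      | zero => simp
      | add a b ha hb => simp only [TensorProduct.tmul_add, map_add, ha, hb]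
      | tmul c x => simp [eX, eY]
  intro a b hab
  exact eX.injective (hX (by rw [← hkey, ← hkey, hab]))

end GrothLib.RG6.InjMod
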