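import Groth.Agent.Lib.RG6.InjMod.Generise

/-!
# There is no maximal bad prime
-/

set_option autoImplicit false
set_option linter.style.haveILetI false
set_option linter.unusedSectionVars false
set_option maxHeartbeats 800000

universe u

open TensorProduct IsLocalRing

attribute [local instance] MvPolynomial.algebraMvPolynomial

namespace GrothLib.RG6.InjMod

variable {A : Type u} [CommRing A] {n : ℕ}
  (N : Type u) [AddCommGroup N] [Module (Poly n A) N] [Module A N] [IsScalarTower A (Poly n A) N]
  (q : Ideal (Poly n A)) [q.IsPrime] {M : Type u} [AddCommGroup M] [Module A M]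
  (u : Nq N q →ₗ[A] M)

/-- A domain valuation ring with known contraction is good when the contracted prime is. -/
theorem good_residue (V : Type u) [CommRing V] [IsLocalRing V] [Algebra A V] (p : Ideal A) [p.IsPrime]
    (h : (maximalIdeal V).comap (algebraMap A V) = p) (hp : Good u p.ResidueField) : Good u (ResidueField V) := by
  refine (good_field_iff (u := u) (ResidueField V) p ?_).1 hp
  rw [← h]
  ext a
  rw [RingHom.mem_ker, IsScalarTower.algebraMap_apply A V (ResidueField V)]
  exact residue_eq_zero_iff _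

/-- Injectivity of base change of the flat module. -/
theorem lTensor_eq_zero_of_injective [Module.Flat A M] {C C' : Type u} [CommRing C] [Algebra A C] [CommRing C']
    [Algebra A C'] (φ : C →ₐ[A] C') (hφ : Function.Injective φ) {z : C ⊗[A] Nq N q}
    (h : u.lTensor C' (φ.toLinearMap.rTensor (Nq N q) z) = 0) : u.lTensor C z = 0 := by
  rw [lTensor_rTensor_comm] at h
  exact Module.Flat.rTensor_preserves_injective_linearMap φ.toLinearMap hφ (h.trans (map_zero _).symm)

variable [Module.Flat A M] [Module.FinitePresentation (Poly n A) N]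

theorem good_of_forall_gt [IsLocalRing A] (hqm : q.comap (algebraMap A (Poly n A)) = maximalIdeal A)
    (hm : Good u (maximalIdeal A).ResidueField) (p' : Ideal A) [hp' : p'.IsPrime]
    (hbig : ∀ (p : Ideal A) [p.IsPrime], p' < p → Good u p.ResidueField) : Good u p'.ResidueField := by
  classical
  let K := p'.ResidueField
  refine (injective_iff_map_eq_zero (u.lTensor K)).2 fun z hz => ?_
  by_contra hz0
  obtain ⟨t, ht, f, hf⟩ := exists_act_eq_ι N q K z
  let PK := Poly n K
  let TK : Submonoid PK := q.primeCompl.map (algebraMap (Poly n A) PK)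
  have hdisj : Disjoint ((LinearMap.ker (LinearMap.toSpanSingleton PK _ f) : Ideal PK) : Set PK) TK := by
    refine Set.disjoint_left.2 fun x hx ⟨s, hs, hsx⟩ => hz0 ?_
    apply (act_bijective N q K ht).1
    rw [map_zero, hf]
    apply (act_bijective N q K hs).1
    rw [map_zero, ← ι_smul]
    have h1 : s • f = 0 := by
      rw [← algebraMap_smul PK s f, hsx]
      exact hx
    rw [h1, map_zero]
  obtain ⟨Q0, hQ0, hQ0f, hQ0T⟩ := Ideal.exists_le_prime_disjoint _ TK hdisj
  let L := Q0.ResidueField
  let ψ : PK →+* L := algebraMap PK L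
  let χ : Poly n A →+* L := ψ.comp (algebraMap (Poly n A) PK)
  have hψ : ∀ x, ψ x = 0 ↔ x ∈ Q0 := fun x => Ideal.algebraMap_residueField_eq_zero
  have hunit : ∀ s : q.primeCompl, IsUnit (χ s) := fun s => isUnit_iff_ne_zero.2 fun h =>
    Set.disjoint_left.1 hQ0T ((hψ _).1 h) ⟨s, s.2, rfl⟩
  obtain ⟨W, g, hg, hloc⟩ := GrothLib.RG6.exists_valuation
    (IsLocalization.lift (M := q.primeCompl) (S := Localization.AtPrime q) hunit)
  have hχ : ∀ x : Poly n A, χ x = (g (algebraMap _ (Localization.AtPrime q) x) : L) := fun x => by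
    rw [← IsLocalization.lift_eq (M := q.primeCompl) (S := Localization.AtPrime q) hunit x, ← hg]
    rfl
  let j : K →+* L := ψ.comp MvPolynomial.C
  have hjA : ∀ a : A, j (algebraMap A K a) = χ (algebraMap A (Poly n A) a) := fun a => by
    show ψ (MvPolynomial.C (algebraMap A K a)) = ψ (MvPolynomial.map (algebraMap A K) (MvPolynomial.C a))
    rw [MvPolynomial.map_C]
  let V : ValuationSubring K := W.comap j
  have hAV : ∀ a : A, algebraMap A K a ∈ V := fun a => by
    rw [ValuationSubring.mem_comap, hjA, hχ]
    exact (g _).2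
  letI : Algebra A V := ((algebraMap A K).codRestrict V.toSubring hAV).toAlgebra
  haveI : IsScalarTower A V K := IsScalarTower.of_algebraMap_eq fun a => rfl
  let jV : V →+* W := (j.comp V.subtype).codRestrict W.toSubring fun v => v.2
  have hjV : ∀ v : V, IsUnit (jV v) → IsUnit v := by
    intro v hv
    obtain ⟨w, hw⟩ := hv.exists_right_inv
    have h1 : j (v : K) * (w : L) = 1 := congrArg Subtype.val hw
    have hv0 : (v : K) ≠ 0 := fun h0 => by rw [h0, map_zero, zero_mul] at h1; exact zero_ne_one h1
    have hinv : j (v : K)⁻¹ = w := by rw [map_inv₀]; exact (eq_inv_of_mul_eq_one_right h1).symm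
    exact IsUnit.of_mul_eq_one (⟨(v : K)⁻¹, by rw [ValuationSubring.mem_comap, hinv]; exact w.2⟩ : V)
      (Subtype.ext (mul_inv_cancel₀ hv0))
  -- the centre
  have hcm : (maximalIdeal V).comap (algebraMap A V) = maximalIdeal A := by
    refine ((maximalIdeal.isMaximal A).eq_of_le (Ideal.IsPrime.comap _).ne_top fun a ha => ?_).symm
    rw [Ideal.mem_comap]
    intro hu
    rw [← hqm, Ideal.mem_comap, ← IsLocalization.AtPrime.to_map_mem_maximal_iff (Localization.AtPrime q) q] at ha
    refine ha (isUnit_of_map_unit g _ ?_)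
    have h1 : jV (algebraMap A V a) = g (algebraMap (Poly n A) _ (algebraMap A _ a)) :=
      Subtype.ext ((hjA a).trans (hχ _))
    rw [← h1]
    exact hu.map jV
  have hV : Good u (ResidueField V) := good_residue N q u V _ hcm hm
  let PV := Poly n V
  have hWmem : ∀ x : PV, ψ (MvPolynomial.map V.subtype x) ∈ W := fun x => by
    induction x using MvPolynomial.induction_on with
    | C v => rw [MvPolynomial.map_C]; exact v.2
    | add p p' hp hp' => rw [map_add, map_add]; exact add_mem hp hp'
    | mul_X p i hp =>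
      rw [map_mul, map_mul, MvPolynomial.map_X]
      refine mul_mem hp ?_
      have h1 : χ (MvPolynomial.X i) = ψ (MvPolynomial.X i) := congrArg ψ (MvPolynomial.map_X _ i)
      rw [← h1, hχ]
      exact (g _).2
  let θ : PV →+* W := (ψ.comp (MvPolynomial.map V.subtype)).codRestrict W.toSubring hWmem
  let Q : Ideal PV := (maximalIdeal W).comap θ
  haveI : Q.IsPrime := Ideal.IsPrime.comap _
  have hQm : Q.comap (algebraMap V PV) = maximalIdeal V := by
    refine ((maximalIdeal.isMaximal V).eq_of_le (Ideal.IsPrime.comap _).ne_top fun v hv => ?_).symm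
    intro hu
    refine hv (hjV v ?_)
    have h1 : θ (algebraMap V PV v) = jV v := Subtype.ext (congrArg ψ (MvPolynomial.map_C _ v))
    rwa [← h1]
  have hmapP : ∀ s : Poly n A, MvPolynomial.map V.subtype (algebraMap (Poly n A) PV s) = algebraMap (Poly n A) PK s :=
    fun s => by
    show MvPolynomial.map V.subtype (MvPolynomial.map (algebraMap A V) s) = MvPolynomial.map (algebraMap A K) s
    rw [MvPolynomial.map_map]
    rfl
  have hQT : ∀ s : Poly n A, s ∉ q → algebraMap (Poly n A) PV s ∉ Q := fun s hs hmem => by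
    refine hmem ?_
    have h1 : θ (algebraMap (Poly n A) PV s) = g (algebraMap _ _ s) :=
      Subtype.ext ((congrArg ψ (hmapP s)).trans (hχ s))
    rw [h1]
    exact (IsLocalization.map_units (Localization.AtPrime q) (⟨s, hs⟩ : q.primeCompl)).map g
  -- scale the element into the valuation ring
  let φ := IsScalarTower.toAlgHom A V K
  obtain ⟨hsurj, -⟩ := mapN_localization (A := A) (n := n) N V K (nonZeroDivisors V)
  obtain ⟨w, hw, f0, hf0⟩ := hsurj f
  change mapN N φ f0 = algebraMap V K w • f at hf0
  have hw0 : algebraMap V K w ≠ 0 := fun h0 =>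
    nonZeroDivisors.ne_zero hw (IsFractionRing.injective V K (h0.trans (map_zero _).symm))
  obtain ⟨zV, hzV⟩ := (act_bijective N q V ht).2 (ι N q V f0)
  have hzVK : φ.toLinearMap.rTensor (Nq N q) zV = algebraMap V K w • z := by
    apply (act_bijective N q K ht).1
    rw [← act_map, hzV, ι_mapN, hf0, map_smul, map_smul, hf]
  have huzV : u.lTensor V zV = 0 := by
    refine lTensor_eq_zero_of_injective N q u φ (IsFractionRing.injective V K) ?_
    rw [hzVK, show u.lTensor K (algebraMap V K w • z) = algebraMap V K w • u.lTensor K z from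
      (u.baseChange K).map_smul _ z, hz, smul_zero]
  let D := datum N q u V hV
  have hDT : ∀ s ∈ D.T, s ∉ Q := by
    rintro _ ⟨s, hs, rfl⟩
    exact hQT s hs
  obtain ⟨s, hs, a, g₀, hsf, hg₀⟩ := content_at D Q hQm hDT f0
  by_cases ha0 : a = 0
  · have h1 : MvPolynomial.map V.subtype s * algebraMap K PK (algebraMap V K w) ∈ Q0 := by
      refine hQ0f ?_
      show (MvPolynomial.map V.subtype s * algebraMap K PK (algebraMap V K w)) • f = 0
      rw [mul_smul, algebraMap_smul, ← hf0]
      refine (mapN_smul N φ s f0).symm.trans ?_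
      rw [hsf, ha0, show (0 : V) • g₀ = 0 from zero_smul V g₀, map_zero]
    refine hs (show θ s ∈ maximalIdeal W from ?_)
    have h2 : MvPolynomial.map V.subtype s ∈ Q0 := (hQ0.mem_or_mem h1).resolve_right fun hmem =>
      hQ0.ne_top (Ideal.eq_top_of_isUnit_mem _ hmem ((isUnit_iff_ne_zero.2 hw0).map _))
    have h3 : θ s = 0 := Subtype.ext ((hψ _).2 h2)
    rw [h3]
    exact zero_mem _
  have hg' := hg₀.resolve_left ha0
  by_cases hau : IsUnit a
  · exact not_kernel D zV huzV (LinearEquiv.ofBijective (act N q V t) (act_bijective N q V ht)) f0 hzV Q hQm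
      hDT s g₀ ha0 hsf hg' fun c _ => ⟨0, hau.dvd⟩
  let 𝔓 : Ideal V := (Ideal.span {a}).radical
  haveI h𝔓 : 𝔓.IsPrime := by
    refine ⟨fun h => hau ?_, fun {x y} hxy => ?_⟩
    · rwa [Ideal.radical_eq_top, Ideal.span_singleton_eq_top] at h
    · obtain ⟨k, hk⟩ := hxy
      rcases ValuationRing.dvd_total x y with ⟨d, rfl⟩ | ⟨d, rfl⟩
      · refine Or.inr ⟨k * 2, ?_⟩
        have h2 : (x * d) ^ (k * 2) = (x * (x * d)) ^ k * d ^ k := by ring
        rw [h2]
        exact Ideal.mul_mem_right _ _ hk
      · refine Or.inl ⟨k * 2, ?_⟩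
        have h2 : (y * d) ^ (k * 2) = ((y * d) * y) ^ k * d ^ k := by ring
        rw [h2]
        exact Ideal.mul_mem_right _ _ hk
  let V' : ValuationSubring K := V.ofPrime 𝔓
  letI : Algebra A V' := ((algebraMap V V').comp (algebraMap A V)).toAlgebra
  haveI : IsScalarTower A V V' := IsScalarTower.of_algebraMap_eq fun a => rfl
  let p₁ : Ideal A := 𝔓.comap (algebraMap A V)
  haveI : p₁.IsPrime := Ideal.IsPrime.comap _
  have hc1 : (maximalIdeal V').comap (algebraMap A V') = p₁ := by
    ext x
    exact IsLocalization.AtPrime.to_map_mem_maximal_iff V' 𝔓 _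
  have hlt : p' < p₁ := by
    refine lt_of_le_of_ne (fun x hx => ?_) fun heq => ?_
    · have h0 : algebraMap A V x = 0 := Subtype.ext (Ideal.algebraMap_residueField_eq_zero.2 hx)
      rw [Ideal.mem_comap, h0]
      exact zero_mem _
    · obtain ⟨⟨α, β⟩, hαβ⟩ := IsLocalization.surj (nonZeroDivisors (A ⧸ p')) (a : K)
      obtain ⟨α, rfl⟩ := Ideal.Quotient.mk_surjective α
      obtain ⟨β', hβ'⟩ := Ideal.Quotient.mk_surjective (β : A ⧸ p')
      have h1 : algebraMap A V α = a * algebraMap A V β' := by
        refine Subtype.ext ?_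
        change algebraMap A K α = (a : K) * algebraMap A K β'
        rw [← Ideal.algebraMap_quotient_residueField_mk p' α, ← Ideal.algebraMap_quotient_residueField_mk p' β',
          hβ']
        exact hαβ.symm
      have hα : α ∈ p₁ := by
        rw [Ideal.mem_comap, h1]
        exact Ideal.mul_mem_right _ _ (Ideal.le_radical (Ideal.mem_span_singleton_self a))
      rw [← heq] at hα
      have h2 : (a : K) * algebraMap A K β' = 0 := by
        rw [← Ideal.algebraMap_residueField_eq_zero (I := p') (x := α)] at hα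
        rw [← hα]
        exact (congrArg Subtype.val h1).symm
      rcases mul_eq_zero.1 h2 with h | h
      · exact ha0 (Subtype.ext h)
      · rw [Ideal.algebraMap_residueField_eq_zero, ← Ideal.Quotient.eq_zero_iff_mem, hβ'] at h
        exact nonZeroDivisors.ne_zero β.2 h
  exact generise_false N q u V V' 𝔓 hV (good_residue N q u V' p₁ hc1 (hbig p₁ hlt)) t ht zV huzV f0 hzV Q hQm hQT
    s hs a g₀ ha0 hsf hg' fun p hp => by
      obtain ⟨k, hk⟩ := hp
      exact ⟨k, Ideal.mem_span_singleton.1 hk⟩

end GrothLib.RG6.InjMod
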