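import Mathlib

/-!
# Base change of the polynomial model of a local module
-/

set_option autoImplicit false
set_option linter.style.haveILetI false
set_option linter.unusedSectionVars false

universe u

open TensorProduct

attribute [local instance] MvPolynomial.algebraMvPolynomial

namespace GrothLib.RG6.InjMod

variable {A : Type u} [CommRing A] {n : ℕ}

/-- The polynomial algebra. -/
abbrev Poly (n : ℕ) (C : Type u) [CommRing C] : Type u := MvPolynomial (Fin n) C

variable (N : Type u) [AddCommGroup N] [Module (Poly n A) N] [Module A N] [IsScalarTower A (Poly n A) N]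
  (q : Ideal (Poly n A)) [q.IsPrime]
  (C : Type u) [CommRing C] [Algebra A C]

variable (A n) in
/-- The module over the base changed polynomial algebra. -/
abbrev NC : Type u := Poly n C ⊗[Poly n A] N

/-- The local module. -/
abbrev Nq : Type u := LocalizedModule q.primeCompl N

/-- The comparison with the base change of the local module. -/
noncomputable def eC : Poly n C ⊗[Poly n A] Nq N q ≃ₗ[C] C ⊗[A] Nq N q :=
  Algebra.IsPushout.cancelBaseChange A C (Poly n A) (Poly n C) (Nq N q)

/-- The map from the model. -/
noncomputable def ι : NC A n N C →ₗ[C] C ⊗[A] Nq N q :=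
  (eC N q C).toLinearMap ∘ₗ
    ((AlgebraTensorModule.lTensor (Poly n C) (Poly n C) (LocalizedModule.mkLinearMap q.primeCompl N)).restrictScalars C)

/-- Multiplication on the right factor. -/
noncomputable def act (t : Poly n A) : C ⊗[A] Nq N q →ₗ[C] C ⊗[A] Nq N q :=
  AlgebraTensorModule.lTensor C C ((LinearMap.lsmul (Poly n A) (Nq N q) t).restrictScalars A)

theorem algebraMap_smul_tmul (t : Poly n A) (g : Poly n C) (m : N) :
    algebraMap (Poly n A) (Poly n C) t • (g ⊗ₜ[Poly n A] m) = g ⊗ₜ[Poly n A] (t • m) := by
  rw [algebraMap_smul, TensorProduct.tmul_smul]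

theorem eC_tmul (c : C) (x : Nq N q) :
    eC N q C (algebraMap C (Poly n C) c ⊗ₜ[Poly n A] x) = c ⊗ₜ[A] x := by
  apply (eC N q C).symm.injective
  rw [LinearEquiv.symm_apply_apply]
  simp [eC]

theorem eC_smul (t : Poly n A) (z : Poly n C ⊗[Poly n A] Nq N q) :
    eC N q C (t • z) = act N q C t (eC N q C z) := by
  obtain ⟨w, rfl⟩ := (eC N q C).symm.surjective z
  rw [LinearEquiv.apply_symm_apply]
  induction w using TensorProduct.induction_on with
  | zero => simp
  | add a b ha hb => simp only [map_add, smul_add, ha, hb]
  | tmul c x =>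
    have h : (eC N q C).symm (c ⊗ₜ[A] x) = algebraMap C (Poly n C) c ⊗ₜ[Poly n A] x := by
      apply (eC N q C).injective
      rw [LinearEquiv.apply_symm_apply, eC_tmul]
    rw [h, ← TensorProduct.tmul_smul, eC_tmul]
    rfl

theorem ι_tmul_one (m : N) :
    ι N q C ((1 : Poly n C) ⊗ₜ[Poly n A] m) = (1 : C) ⊗ₜ[A] LocalizedModule.mkLinearMap q.primeCompl N m := by
  show eC N q C ((1 : Poly n C) ⊗ₜ[Poly n A] LocalizedModule.mkLinearMap q.primeCompl N m) = _
  rw [← map_one (algebraMap C (Poly n C)), eC_tmul]

theorem ι_smul (t : Poly n A) (f : NC A n N C) : ι N q C (t • f) = act N q C t (ι N q C f) := by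
  show eC N q C (AlgebraTensorModule.lTensor (Poly n C) (Poly n C) (LocalizedModule.mkLinearMap q.primeCompl N) (t • f)) = _
  rw [LinearMap.map_smul_of_tower]
  exact eC_smul N q C t _

theorem act_bijective {t : Poly n A} (ht : t ∉ q) : Function.Bijective (act N q C t) := by
  have h := (Module.End.isUnit_iff _).1
    (IsLocalizedModule.map_units (LocalizedModule.mkLinearMap q.primeCompl N) (⟨t, ht⟩ : q.primeCompl))
  exact (LinearEquiv.lTensor C
    (LinearEquiv.ofBijective ((LinearMap.lsmul (Poly n A) (Nq N q) t).restrictScalars A) h)).bijective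

theorem exists_act_eq_ι (x : C ⊗[A] Nq N q) : ∃ t : Poly n A, t ∉ q ∧ ∃ f : NC A n N C, act N q C t x = ι N q C f := by
  induction x using TensorProduct.induction_on with
  | zero => exact ⟨1, Ideal.IsPrime.one_notMem inferInstance, 0, by rw [map_zero, map_zero]⟩
  | tmul c m =>
    obtain ⟨⟨m, t⟩, ht⟩ := IsLocalizedModule.surj q.primeCompl (LocalizedModule.mkLinearMap q.primeCompl N) m
    refine ⟨t, t.2, c • ((1 : Poly n C) ⊗ₜ[Poly n A] m), ?_⟩
    rw [map_smul, ι_tmul_one, ← ht, TensorProduct.smul_tmul', smul_eq_mul, mul_one]
    rfl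
  | add a b ha hb =>
    obtain ⟨t, ht, f, hf⟩ := ha
    obtain ⟨t', ht', f', hf'⟩ := hb
    refine ⟨t * t', fun h => ((inferInstance : q.IsPrime).mem_or_mem h).elim ht ht', t' • f + t • f', ?_⟩
    have h1 : ∀ (s s' : Poly n A) (y : C ⊗[A] Nq N q), act N q C (s * s') y = act N q C s (act N q C s' y) := by
      intro s s' y
      induction y using TensorProduct.induction_on with
      | zero => simp
      | add y y' hy hy' => simp only [map_add, hy, hy']
      | tmul c y => exact congrArg (c ⊗ₜ[A] ·) (mul_smul s s' y)
    calc act N q C (t * t') (a + b) = act N q C (t * t') a + act N q C (t * t') b := map_add _ _ _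
      _ = act N q C (t' * t) a + act N q C (t * t') b := by rw [mul_comm t t']
      _ = act N q C t' (act N q C t a) + act N q C t (act N q C t' b) := by rw [h1, h1]
      _ = _ := by rw [hf, hf', ← ι_smul, ← ι_smul, ← map_add]

theorem exists_smul_eq_zero {f : NC A n N C} (hf : ι N q C f = 0) : ∃ t : Poly n A, t ∉ q ∧ t • f = 0 := by
  have h0 : AlgebraTensorModule.lTensor (Poly n A) (Poly n C) (LocalizedModule.mkLinearMap q.primeCompl N) f = 0 :=
    (eC N q C).map_eq_zero_iff.1 hf
  have h1 : AlgebraTensorModule.rTensor (Poly n A) (Poly n C) (LocalizedModule.mkLinearMap q.primeCompl N)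
      (TensorProduct.comm (Poly n A) _ _ f) = 0 := by
    have key : ∀ g : NC A n N C, AlgebraTensorModule.rTensor (Poly n A) (Poly n C)
        (LocalizedModule.mkLinearMap q.primeCompl N) (TensorProduct.comm (Poly n A) _ _ g) =
        TensorProduct.comm (Poly n A) _ _
          (AlgebraTensorModule.lTensor (Poly n A) (Poly n C) (LocalizedModule.mkLinearMap q.primeCompl N) g) := fun g => by
      induction g using TensorProduct.induction_on with
      | zero => simp
      | tmul a b => simp
      | add a b ha hb => simp only [map_add, ha, hb]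
    rw [key, h0, map_zero]
  obtain ⟨t, ht⟩ := (IsLocalizedModule.eq_zero_iff q.primeCompl _).1 h1
  refine ⟨t, t.2, ?_⟩
  apply (TensorProduct.comm (Poly n A) (Poly n C) N).injective
  rw [map_zero, map_smul]
  exact ht

/-- If the image is divisible, then so is a multiple in the model. -/
theorem exists_smul_eq_of_ι_eq {f : NC A n N C} {b : C} {x : C ⊗[A] Nq N q} (h : ι N q C f = b • x) :
    ∃ t : Poly n A, t ∉ q ∧ ∃ g : NC A n N C, t • f = b • g := by
  obtain ⟨t, ht, g, hg⟩ := exists_act_eq_ι N q C x
  have h1 : ι N q C (t • f - b • g) = 0 := by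
    rw [map_sub, ι_smul, map_smul, h, map_smul, hg, sub_self]
  obtain ⟨t', ht', h2⟩ := exists_smul_eq_zero N q C h1
  refine ⟨t' * t, fun h => ((inferInstance : q.IsPrime).mem_or_mem h).elim ht' ht, t' • g, ?_⟩
  rw [mul_smul, smul_comm b t' g]
  rw [smul_sub] at h2
  exact sub_eq_zero.1 h2

variable {C} {C' : Type u} [CommRing C'] [Algebra A C'] (φ : C →ₐ[A] C')

/-- The map of models. -/
noncomputable def mapN : NC A n N C →ₗ[Poly n A] NC A n N C' :=
  LinearMap.rTensor N ({ toFun := MvPolynomial.map φ.toRingHom
                         map_add' := map_add _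
                         map_smul' := fun t g => by
                           rw [RingHom.id_apply, Algebra.smul_def, Algebra.smul_def, map_mul]
                           congr 1
                           show MvPolynomial.map φ.toRingHom (MvPolynomial.map (algebraMap A C) t) =
                             MvPolynomial.map (algebraMap A C') t
                           rw [MvPolynomial.map_map]
                           exact congrArg (fun h : A →+* C' => MvPolynomial.map h t) φ.comp_algebraMap } : Poly n C →ₗ[Poly n A] Poly n C')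

theorem mapN_tmul (g : Poly n C) (m : N) :
    mapN N φ (g ⊗ₜ[Poly n A] m) = MvPolynomial.map φ.toRingHom g ⊗ₜ[Poly n A] m := rfl

theorem mapN_smul (r : Poly n C) (f : NC A n N C) :
    mapN N φ (r • f) = MvPolynomial.map φ.toRingHom r • mapN N φ f := by
  induction f using TensorProduct.induction_on with
  | zero => simp
  | add a b ha hb => simp only [smul_add, map_add, ha, hb]
  | tmul g m => rw [TensorProduct.smul_tmul', mapN_tmul, mapN_tmul, TensorProduct.smul_tmul', smul_eq_mul, smul_eq_mul, map_mul]

theorem mapN_smul' (c : C) (f : NC A n N C) : mapN N φ (c • f) = φ c • mapN N φ f := by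
  rw [← algebraMap_smul (Poly n C) c f, mapN_smul]
  have h : MvPolynomial.map φ.toRingHom (algebraMap C (Poly n C) c) = algebraMap C' (Poly n C') (φ c) := by
    simp [MvPolynomial.algebraMap_eq]
  rw [h, algebraMap_smul]

theorem ι_mapN (f : NC A n N C) :
    φ.toLinearMap.rTensor (Nq N q) (ι N q C f) = ι N q C' (mapN N φ f) := by
  have hsmul : ∀ (c : C) (z : C ⊗[A] Nq N q),
      φ.toLinearMap.rTensor (Nq N q) (c • z) = φ c • φ.toLinearMap.rTensor (Nq N q) z := fun c z => by
    induction z using TensorProduct.induction_on with
    | zero => simp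
    | add a b ha hb => simp only [smul_add, map_add, ha, hb]
    | tmul d x => simp [TensorProduct.smul_tmul']
  have hact : ∀ (t : Poly n A) (z : C ⊗[A] Nq N q),
      φ.toLinearMap.rTensor (Nq N q) (act N q C t z) = act N q C' t (φ.toLinearMap.rTensor (Nq N q) z) := fun t z => by
    induction z using TensorProduct.induction_on with
    | zero => simp
    | add a b ha hb => simp only [map_add, ha, hb]
    | tmul d x => rfl
  induction f using TensorProduct.induction_on with
  | zero => simp
  | add a b ha hb => simp only [map_add, ha, hb]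
  | tmul g m =>
    induction g using MvPolynomial.induction_on' generalizing m with
    | monomial d c =>
      have e : MvPolynomial.monomial d c ⊗ₜ[Poly n A] m =
          c • ((MvPolynomial.monomial d (1 : A) : Poly n A) • ((1 : Poly n C) ⊗ₜ[Poly n A] m)) := by
        rw [TensorProduct.smul_tmul', TensorProduct.smul_tmul']
        congr 1
        rw [Algebra.smul_def (MvPolynomial.monomial d (1 : A) : Poly n A), mul_one]
        show _ = c • MvPolynomial.map (algebraMap A C) (MvPolynomial.monomial d 1)
        rw [MvPolynomial.map_monomial, map_one, MvPolynomial.smul_monomial, smul_eq_mul, mul_one]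
      rw [e, map_smul, hsmul, ι_smul, hact, mapN_smul', map_smul, map_smul, ι_smul]
      congr 2
      rw [mapN_tmul, map_one, ι_tmul_one, ι_tmul_one]
      simp
    | add p p' hp hp' => simp only [TensorProduct.add_tmul, map_add, hp, hp']

end GrothLib.RG6.InjMod
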