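import Groth.Agent.Lib.RG6.InjMod.Model

/-!
# The model as a base change from a smaller ring
-/

set_option autoImplicit false
set_option linter.style.haveILetI false
set_option linter.unusedSectionVars false

universe u

open TensorProduct

attribute [local instance] MvPolynomial.algebraMvPolynomial

namespace GrothLib.RG6.InjMod

variable {A0 A k C : Type u} [CommRing A0] [CommRing A] [Algebra A0 A] [CommRing k] [Algebra A0 k] [CommRing C]
  [Algebra A C] [Algebra k C] [Algebra A0 C] [IsScalarTower A0 A C] [IsScalarTower A0 k C] {n : ℕ}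
  {N0 : Type u} [AddCommGroup N0] [Module (Poly n A0) N0]
  {N : Type u} [AddCommGroup N] [Module (Poly n A) N]
  (e : Poly n A ⊗[Poly n A0] N0 ≃ₗ[Poly n A] N)

theorem isScalarTower_poly' (A0 A C : Type u) [CommRing A0] [CommRing A] [CommRing C] [Algebra A0 A] [Algebra A C]
    [Algebra A0 C] [IsScalarTower A0 A C] (n : ℕ) : IsScalarTower (Poly n A0) (Poly n A) (Poly n C) :=
  IsScalarTower.of_algebraMap_eq fun t => by
    show MvPolynomial.map (algebraMap A0 C) t = MvPolynomial.map (algebraMap A C) (MvPolynomial.map (algebraMap A0 A) t)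
    rw [MvPolynomial.map_map, ← IsScalarTower.algebraMap_eq]

variable (k C) in
theorem exists_modelEquiv :
    ∃ E : C ⊗[k] NC A0 n N0 k ≃ₗ[C] NC A n N C,
      ∀ (c : C) (p : Poly n k) (m : N0), E (c ⊗ₜ[k] (p ⊗ₜ[Poly n A0] m)) =
        (algebraMap C (Poly n C) c * MvPolynomial.map (algebraMap k C) p) ⊗ₜ[Poly n A] e ((1 : Poly n A) ⊗ₜ[Poly n A0] m) := by
  haveI := isScalarTower_poly' A0 A C n
  haveI := isScalarTower_poly' A0 k C n
  let e0 : C ⊗[k] NC A0 n N0 k ≃ₗ[C] Poly n C ⊗[Poly n k] NC A0 n N0 k :=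
    (Algebra.IsPushout.cancelBaseChange k C (Poly n k) (Poly n C) (NC A0 n N0 k)).symm
  let e1 := AlgebraTensorModule.cancelBaseChange (Poly n A0) (Poly n k) (Poly n C) (Poly n C) N0
  let e2 := (AlgebraTensorModule.cancelBaseChange (Poly n A0) (Poly n A) (Poly n C) (Poly n C) N0).symm
  let e3 := AlgebraTensorModule.congr (LinearEquiv.refl (Poly n C) (Poly n C)) e
  let E' : Poly n C ⊗[Poly n k] NC A0 n N0 k ≃ₗ[Poly n C] NC A n N C := (e1.trans e2).trans e3
  refine ⟨e0.trans (E'.restrictScalars C), fun c p m => ?_⟩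
  have h0 : e0 (c ⊗ₜ[k] (p ⊗ₜ[Poly n A0] m)) = algebraMap C (Poly n C) c ⊗ₜ[Poly n k] (p ⊗ₜ[Poly n A0] m) := by
    simp [e0]
  rw [LinearEquiv.trans_apply]
  show E' (e0 (c ⊗ₜ[k] (p ⊗ₜ[Poly n A0] m))) = _
  rw [h0]
  simp only [E', e1, e2, e3, LinearEquiv.trans_apply, AlgebraTensorModule.cancelBaseChange_tmul,
    AlgebraTensorModule.cancelBaseChange_symm_tmul, AlgebraTensorModule.congr_tmul, LinearEquiv.refl_apply]
  rw [Algebra.smul_def, mul_comm]
  rfl

include e in
variable (k C) in
/-- Multiplication by elements of the small polynomial ring commutes with the comparison. -/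
theorem exists_modelEquiv' :
    ∃ E : C ⊗[k] NC A0 n N0 k ≃ₗ[C] NC A n N C, ∀ (r : Poly n A0) (x : C ⊗[k] NC A0 n N0 k),
      E (AlgebraTensorModule.lTensor C C ((LinearMap.lsmul (Poly n k) (NC A0 n N0 k) (algebraMap (Poly n A0) (Poly n k) r)).restrictScalars k) x) =
        algebraMap (Poly n A0) (Poly n A) r • E x := by
  obtain ⟨E, hE⟩ := exists_modelEquiv k C e
  refine ⟨E, fun r x => ?_⟩
  induction x using TensorProduct.induction_on with
  | zero => simp
  | add a b ha hb => simp only [map_add, smul_add, ha, hb]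
  | tmul c y =>
    induction y using TensorProduct.induction_on with
    | zero => simp
    | add a b ha hb => simp only [TensorProduct.tmul_add, map_add, smul_add, ha, hb]
    | tmul p m =>
      show E (c ⊗ₜ[k] (algebraMap (Poly n A0) (Poly n k) r • (p ⊗ₜ[Poly n A0] m))) = _
      rw [algebraMap_smul]
      rw [← TensorProduct.tmul_smul, hE, hE, TensorProduct.tmul_smul, ← algebraMap_smul (Poly n A) r
        ((1 : Poly n A) ⊗ₜ[Poly n A0] m), map_smul, TensorProduct.tmul_smul]

end GrothLib.RG6.InjMod
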