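import Groth.Agent.Lib.RigidBase.FlatPi
import Groth.Agent.Lib.RG6.FlatAt

/-!
# The power torsion of an element
-/

set_option autoImplicit false
set_option linter.style.haveILetI false
set_option linter.unusedSectionVars false

universe u

open TensorProduct

namespace GrothLib.RG6.InjMod

variable {B : Type u} [CommRing B] (S : Type u) [CommRing S] [Algebra B S] {L : Type u} [AddCommGroup L]
  [Module B L] [Module S L] [IsScalarTower B S L] (π : B)

variable (L) in
/-- The power torsion. -/
def powTors : Submodule S L where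
  carrier := {x | ∃ k : ℕ, π ^ k • x = 0}
  zero_mem' := ⟨0, smul_zero _⟩
  add_mem' := fun {x y} ⟨a, ha⟩ ⟨b, hb⟩ => ⟨a + b, by
    rw [smul_add, pow_add, mul_smul, mul_smul, hb, smul_zero, add_zero, smul_comm, ha, smul_zero]⟩
  smul_mem' := fun r x ⟨a, ha⟩ => ⟨a, by rw [smul_comm, ha, smul_zero]⟩

theorem mem_powTors {x : L} : x ∈ powTors S L π ↔ ∃ k : ℕ, π ^ k • x = 0 := Iff.rfl

theorem isSMulRegular_quot : IsSMulRegular (L ⧸ powTors S L π) π := (isSMulRegular_iff_right_eq_zero_of_smul).2 fun x hx => by
  obtain ⟨x, rfl⟩ := (powTors S L π).mkQ_surjective x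
  rw [← LinearMap.map_smul_of_tower, Submodule.mkQ_apply, Submodule.Quotient.mk_eq_zero] at hx
  obtain ⟨j, hj⟩ := hx
  exact (Submodule.Quotient.mk_eq_zero _).2 ⟨j + 1, by rw [pow_succ, mul_smul]; exact hj⟩

theorem flat_quot_powTors (hπ : π ∈ nonZeroDivisors B)
    (haway : Module.Flat (Localization.Away π) (Localization.Away π ⊗[B] L))
    (hquot : Module.Flat (B ⧸ Ideal.span {π}) ((B ⧸ Ideal.span {π}) ⊗[B] L))
    (hdiv : ∀ x ∈ powTors S L π, ∃ x' ∈ powTors S L π, x = π • x') :
    Module.Flat B (L ⧸ powTors S L π) := by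
  let C := Localization.Away π
  let B' := B ⧸ Ideal.span {π}
  let mkQ : L →ₗ[B] L ⧸ powTors S L π := (powTors S L π).mkQ.restrictScalars B
  have hmkQ : Function.Surjective mkQ := (powTors S L π).mkQ_surjective
  let iΓ : powTors S L π →ₗ[B] L := (powTors S L π).subtype.restrictScalars B
  have hexΓ : Function.Exact iΓ mkQ := LinearMap.exact_subtype_mkQ _
  haveI : Module.Flat C (C ⊗[B] (L ⧸ powTors S L π)) := by
    haveI := haway
    have h1 : Function.Surjective (mkQ.baseChange C) := LinearMap.lTensor_surjective C hmkQ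
    have h2 : Function.Injective (mkQ.baseChange C) := by
      refine (injective_iff_map_eq_zero _).2 fun w hw => ?_
      obtain ⟨w', rfl⟩ := ((lTensor_exact C hexΓ hmkQ) w).1 hw
      clear hw
      induction w' using TensorProduct.induction_on with
      | zero => simp
      | add a b ha hb => rw [map_add, ha, hb, add_zero]
      | tmul c y =>
        obtain ⟨j, hj⟩ := (mem_powTors S π).1 y.2
        obtain ⟨v, hv⟩ := (IsLocalization.map_units C (⟨π ^ j, j, rfl⟩ : Submonoid.powers π)).exists_left_inv
        have hc : c = (π ^ j) • (c * v) := by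
          rw [Algebra.smul_def, mul_comm, mul_assoc, hv, mul_one]
        rw [LinearMap.lTensor_tmul, hc, TensorProduct.smul_tmul]
        show _ ⊗ₜ[B] (π ^ j • (y : L)) = 0
        rw [hj, TensorProduct.tmul_zero]
    exact Module.Flat.of_linearEquiv (LinearEquiv.ofBijective _ ⟨h2, h1⟩).symm
  haveI : Module.Flat B' (B' ⊗[B] (L ⧸ powTors S L π)) := by
    haveI := hquot
    have h1 : Function.Surjective (mkQ.baseChange B') := LinearMap.lTensor_surjective B' hmkQ
    have h2 : Function.Injective (mkQ.baseChange B') := by
      refine (injective_iff_map_eq_zero _).2 fun w hw => ?_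
      obtain ⟨w', rfl⟩ := ((lTensor_exact B' hexΓ hmkQ) w).1 hw
      clear hw
      induction w' using TensorProduct.induction_on with
      | zero => simp
      | add a b ha hb => rw [map_add, ha, hb, add_zero]
      | tmul c y =>
        obtain ⟨y', -, hy'⟩ := hdiv y.1 y.2
        rw [LinearMap.lTensor_tmul]
        show c ⊗ₜ[B] (y : L) = 0
        rw [hy', ← TensorProduct.smul_tmul, Algebra.smul_def,
          show algebraMap B B' π = 0 from Ideal.Quotient.eq_zero_iff_mem.2 (Ideal.mem_span_singleton_self π),
          zero_mul, TensorProduct.zero_tmul]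
    exact Module.Flat.of_linearEquiv (LinearEquiv.ofBijective _ ⟨h2, h1⟩).symm
  exact GrothLib.RigidBase.flat_of_regular_of_quotient_of_away hπ (isSMulRegular_quot S π)

theorem fg_powTors_of_localized {P : Type u} [CommRing P] [Algebra B P] (T : Submonoid P) [Algebra P S]
    [IsScalarTower B P S] [IsLocalization T S] {N : Type u} [AddCommGroup N] [Module P N] [Module B N]
    [IsScalarTower B P N] [Module P L] [IsScalarTower P S L] [IsScalarTower B P L]
    (f : N →ₗ[P] L) [IsLocalizedModule T f] [Module.Finite P N] [Module.FinitePresentation S L]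
    (hfp : ∀ (N' : Type u) [AddCommGroup N'] [Module P N'] [Module B N'] [IsScalarTower B P N'] [Module.Finite P N'],
      Module.Flat B (LocalizedModule T N') → Module.FinitePresentation (Localization T) (LocalizedModule T N'))
    (hflat : Module.Flat B (L ⧸ powTors S L π)) : (powTors S L π).FG := by
  let Γ := powTors S L π
  let Γ0 : Submodule P N := (Γ.restrictScalars P).comap f
  have hΓ0 : Γ0.localized' S T f = Γ := by
    ext x
    rw [Submodule.mem_localized']
    constructor
    · rintro ⟨m, hm, t, rfl⟩
      have h1 : f m ∈ Γ := hm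
      rw [← IsLocalizedModule.mk'_cancel' f m t] at h1
      have h2 : algebraMap P S (t : P) • IsLocalizedModule.mk' f m t ∈ Γ := by
        rw [algebraMap_smul]
        exact h1
      exact (Submodule.smul_mem_iff_of_isUnit Γ (IsLocalization.map_units S t)).1 h2
    · intro hx
      obtain ⟨⟨m, t⟩, hmt⟩ := IsLocalizedModule.surj T f x
      refine ⟨m, ?_, t, IsLocalizedModule.mk'_eq_iff.2 hmt.symm⟩
      show f m ∈ Γ
      rw [← hmt]
      exact Submodule.smul_of_tower_mem Γ _ hx
  let g := Γ0.toLocalizedQuotient' S T f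
  let eL : LocalizedModule T (N ⧸ Γ0) ≃ₗ[P] L ⧸ Γ :=
    (IsLocalizedModule.linearEquiv T (LocalizedModule.mkLinearMap T _) g).trans
      ((Submodule.quotEquivOfEq _ _ hΓ0).restrictScalars P)
  haveI := hfp (N ⧸ Γ0) (Module.Flat.of_linearEquiv (eL.restrictScalars B))
  let eS : S ≃ₐ[P] Localization T := IsLocalization.algEquiv T S (Localization T)
  letI : Module S (LocalizedModule T (N ⧸ Γ0)) := Module.compHom _ eS.toRingEquiv.toRingHom
  haveI : Module.FinitePresentation S (LocalizedModule T (N ⧸ Γ0)) := by
    letI : Algebra S (Localization T) := eS.toRingEquiv.toRingHom.toAlgebra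
    haveI : IsScalarTower S (Localization T) (LocalizedModule T (N ⧸ Γ0)) := IsScalarTower.of_compHom _ _ _
    haveI : Module.FinitePresentation S (Localization T) :=
      Module.FinitePresentation.of_equiv (LinearEquiv.ofBijective (Algebra.linearMap S (Localization T)) eS.bijective)
    exact Module.FinitePresentation.trans S _ (Localization T)
  haveI : IsScalarTower P S (LocalizedModule T (N ⧸ Γ0)) := IsScalarTower.of_algebraMap_smul fun p x => by
    show eS (algebraMap P S p) • x = p • x
    rw [AlgEquiv.commutes, algebraMap_smul]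
  haveI : Module.FinitePresentation S (L ⧸ Γ) :=
    Module.FinitePresentation.of_equiv (eL.extendScalarsOfIsLocalization T S)
  have h := Module.FinitePresentation.fg_ker Γ.mkQ Γ.mkQ_surjective
  rwa [Submodule.ker_mkQ] at h

/-- Divisible torsion at a prime of a finite type algebra vanishes, given flatness after localising
and modulo the element. -/
theorem torsion_eq_zero {B P S L N : Type u} [CommRing B] [CommRing P] [Algebra B P] [Algebra.FiniteType B P]
    (Q : Ideal P) [Q.IsPrime] [CommRing S] [Algebra P S] [IsLocalization.AtPrime S Q] [Algebra B S]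
    [IsScalarTower B P S] [AddCommGroup N] [Module P N] [Module B N] [IsScalarTower B P N] [Module.FinitePresentation P N]
    [AddCommGroup L] [Module P L] [Module B L] [Module S L] [IsScalarTower B P L] [IsScalarTower P S L]
    [IsScalarTower B S L] (f : N →ₗ[P] L) [IsLocalizedModule Q.primeCompl f] (π : B) (hπ : π ∈ nonZeroDivisors B)
    (hπQ : algebraMap B P π ∈ Q)
    (haway : Module.Flat (Localization.Away π) (Localization.Away π ⊗[B] L))
    (hquot : Module.Flat (B ⧸ Ideal.span {π}) ((B ⧸ Ideal.span {π}) ⊗[B] L))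
    (hdiv : ∀ x ∈ powTors S L π, ∃ x' ∈ powTors S L π, x = π • x') : powTors S L π = ⊥ := by
  haveI : IsLocalRing S := IsLocalization.AtPrime.isLocalRing S Q
  haveI : Module.Flat B (L ⧸ powTors S L π) := flat_quot_powTors S π hπ haway hquot hdiv
  haveI : Module.FinitePresentation S L :=
    Module.FinitePresentation.of_equiv ((IsLocalizedModule.isBaseChange Q.primeCompl S f).equiv)
  have hfg := fg_powTors_of_localized S π Q.primeCompl f
    (fun N' _ _ _ _ _ h => GrothLib.RG6.fp_of_flatAt (R := B) (S := P) N' Q h) inferInstance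
  refine Submodule.eq_bot_of_le_smul_of_le_jacobson_bot (IsLocalRing.maximalIdeal S) _ hfg (fun x hx => ?_)
    (IsLocalRing.maximalIdeal_le_jacobson _)
  obtain ⟨x', hx', rfl⟩ := hdiv x hx
  rw [← algebraMap_smul P π x', ← algebraMap_smul S (algebraMap B P π) x']
  exact Submodule.smul_mem_smul ((IsLocalization.AtPrime.to_map_mem_maximal_iff S Q _).2 hπQ) hx'

end GrothLib.RG6.InjMod
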