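import Groth.Agent.Lib.RG6.InjMod.LocalBC
import Groth.Agent.Lib.RG6.FlatAt
import Groth.Agent.Lib.RG6.InjMod.PowTors

/-!
# The step for a regular element with flat localisation
-/

set_option autoImplicit false
set_option linter.style.haveILetI false
set_option linter.unusedSectionVars false
set_option maxHeartbeats 1600000

universe u

open TensorProduct IsLocalRing

attribute [local instance] MvPolynomial.algebraMvPolynomial

namespace GrothLib.RG6.InjMod

variable {A : Type u} [CommRing A] {n : ℕ}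
  (N : Type u) [AddCommGroup N] [Module (Poly n A) N] [Module A N] [IsScalarTower A (Poly n A) N]
  (q : Ideal (Poly n A)) [q.IsPrime] {M : Type u} [AddCommGroup M] [Module A M]
  (u : Nq N q →ₗ[A] M) [Module.Flat A M] [Module.FinitePresentation (Poly n A) N]

/-- The residue fields of an algebra are good. -/
theorem good_field_algebra (hκ : ∀ (p : Ideal A) [p.IsPrime], Good u p.ResidueField)
    (C : Type u) [CommRing C] [Algebra A C] (p : Ideal C) [p.IsPrime] : Good u p.ResidueField := by
  haveI : (p.comap (algebraMap A C)).IsPrime := Ideal.IsPrime.comap _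
  refine (good_field_iff (u := u) p.ResidueField (p.comap (algebraMap A C)) ?_).1 (hκ _)
  ext a
  rw [RingHom.mem_ker, IsScalarTower.algebraMap_apply A C p.ResidueField, Ideal.mem_comap]
  exact Ideal.algebraMap_residueField_eq_zero

theorem good_quotient_of_regular [IsLocalRing A] (hqm : q.comap (algebraMap A (Poly n A)) = maximalIdeal A)
    (hκ : ∀ (p : Ideal A) [p.IsPrime], Good u p.ResidueField) (J : Ideal A) (s : A)
    (hreg : ∀ a, s * a ∈ J → a ∈ J)
    (hflat : Module.Flat (Localization.Away (Ideal.Quotient.mk J s))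
      (NC A n N (Localization.Away (Ideal.Quotient.mk J s))))
    (hs : ∀ (X : Type u) [AddCommGroup X] [Module A X], (∀ a ∈ J ⊔ Ideal.span {s}, ∀ x : X, a • x = 0) → Good u X) :
    Good u (A ⧸ J) := by
  classical
  by_cases hJ : J = ⊤
  · haveI : Subsingleton (A ⧸ J) := Ideal.Quotient.subsingleton_iff.2 hJ
    exact Good.of_subsingleton _
  let B := A ⧸ J
  let π : B := Ideal.Quotient.mk J s
  let C := Localization.Away π
  haveI := hflat
  have hπ : π ∈ nonZeroDivisors B := mem_nonZeroDivisors_iff_right.2 fun b hb => by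
    obtain ⟨a, rfl⟩ := Ideal.Quotient.mk_surjective b
    rw [← map_mul, Ideal.Quotient.eq_zero_iff_mem, mul_comm] at hb
    exact Ideal.Quotient.eq_zero_iff_mem.2 (hreg a hb)
  have hC : Good u C := good_of_flat N q u C fun p _ => good_field_algebra N q u hκ C p
  refine (injective_iff_map_eq_zero (u.lTensor B)).2 fun z hz => ?_
  let F := B ⊗[A] Nq N q
  let eC' : C ⊗[B] F ≃ₗ[C] C ⊗[A] Nq N q := AlgebraTensorModule.cancelBaseChange A B C C (Nq N q)
  let mkC : F →ₗ[B] C ⊗[B] F := TensorProduct.mk B C F 1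
  haveI : IsLocalizedModule (Submonoid.powers π) mkC :=
    (isLocalizedModule_iff_isBaseChange (Submonoid.powers π) C mkC).2 (TensorProduct.isBaseChange B F C)
  -- the element is torsion
  obtain ⟨k, hk⟩ : ∃ k : ℕ, π ^ k • z = 0 := by
    let φ := IsScalarTower.toAlgHom A B C
    have h1 : φ.toLinearMap.rTensor (Nq N q) z = 0 :=
      hC (by rw [lTensor_rTensor_comm, hz, map_zero, map_zero])
    have h2 : ∀ w : F, eC' (mkC w) = φ.toLinearMap.rTensor (Nq N q) w := fun w => by
      induction w using TensorProduct.induction_on with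
      | zero => simp
      | add a b ha hb => simp only [map_add, ha, hb]
      | tmul b x =>
        show eC' ((1 : C) ⊗ₜ[B] (b ⊗ₜ[A] x)) = _
        rw [AlgebraTensorModule.cancelBaseChange_tmul, LinearMap.rTensor_tmul, Algebra.smul_def, mul_one]
        rfl
    have h3 : mkC z = 0 := eC'.injective (by rw [h2, h1, map_zero])
    obtain ⟨⟨_, k, rfl⟩, hk⟩ := (IsLocalizedModule.eq_zero_iff (Submonoid.powers π) mkC).1 h3
    exact ⟨k, hk⟩
  by_cases hsu : IsUnit π
  · exact (smul_eq_zero_iff_eq (hsu.pow k).unit).1 hk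
  have hJm : J ≤ maximalIdeal A := IsLocalRing.le_maximalIdeal hJ
  have hsm : s ∈ maximalIdeal A := fun h => hsu (h.map _)
  -- the prime of polynomials over the quotient
  let μ := algebraMap (Poly n A) (Poly n B)
  have hμ : Function.Surjective μ := MvPolynomial.map_surjective _ Ideal.Quotient.mk_surjective
  have hker : RingHom.ker μ ≤ q := fun x hx => by
    have h1 : x ∈ (maximalIdeal A).map (MvPolynomial.C (σ := Fin n)) := by
      rw [MvPolynomial.mem_map_C_iff]
      intro d
      refine hJm (Ideal.Quotient.eq_zero_iff_mem.1 ?_)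
      have h2 : MvPolynomial.coeff d (MvPolynomial.map (algebraMap A B) x) = 0 := by
        rw [show MvPolynomial.map (algebraMap A B) x = 0 from hx]; simp
      rwa [MvPolynomial.coeff_map] at h2
    refine (Ideal.map_le_iff_le_comap.2 ?_) h1
    rw [← hqm]
    rfl
  let Q : Ideal (Poly n B) := q.map μ
  haveI : Q.IsPrime := Ideal.map_isPrime_of_surjective hμ hker
  have hQc : Q.comap μ = q := by
    rw [Ideal.comap_map_of_surjective μ hμ, sup_eq_left]
    exact hker
  have hT : TC q B = Q.primeCompl := by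
    ext x
    constructor
    · rintro ⟨t, ht, rfl⟩ hmem
      exact ht (hQc ▸ hmem : t ∈ q)
    · intro hx
      obtain ⟨t, rfl⟩ := hμ x
      exact ⟨t, fun ht => hx (Ideal.mem_map_of_mem μ ht), rfl⟩
  haveI : IsLocalizedModule Q.primeCompl (loc N q B) := hT ▸ isLocalizedModule_loc N q B
  let Sl := Localization.AtPrime Q
  let L := LocalizedModule Q.primeCompl (NC A n N B)
  let θ : L ≃ₗ[B] F := ((IsLocalizedModule.linearEquiv Q.primeCompl
    (LocalizedModule.mkLinearMap Q.primeCompl (NC A n N B)) (loc N q B)).restrictScalars B).trans (eC N q B)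
  let Γ : Submodule Sl L := powTors Sl L π
  haveI : Module.Flat B (B ⊗[A] M) := Module.Flat.baseChange ..
  -- the torsion is divisible
  let B' := B ⧸ Ideal.span {π}
  have hkerB' : ∀ a ∈ J ⊔ Ideal.span {s}, algebraMap A B' a = 0 := fun a ha => by
    rw [IsScalarTower.algebraMap_apply A B B']
    refine Ideal.Quotient.eq_zero_iff_mem.2 ?_
    obtain ⟨j, hj, w, hw, rfl⟩ := Submodule.mem_sup.1 ha
    obtain ⟨c, rfl⟩ := Ideal.mem_span_singleton'.1 hw
    show Ideal.Quotient.mk J (j + c * s) ∈ _
    rw [map_add, Ideal.Quotient.eq_zero_iff_mem.2 hj, zero_add, map_mul]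
    exact Ideal.mul_mem_left _ _ (Ideal.mem_span_singleton_self π)
  have hB' : Good u B' := hs B' fun a ha x => (algebraMap_smul B' a x).symm.trans (by rw [hkerB' a ha]; exact zero_mul x)
  have hdiv : ∀ x ∈ Γ, ∃ x' ∈ Γ, x = π • x' := by
    intro x hx
    obtain ⟨j, hj⟩ := (mem_powTors Sl π).1 hx
    have hu : u.lTensor B (θ x) = 0 := by
      refine Module.Flat.isSMulRegular_of_nonZeroDivisors (R := B) (M := B ⊗[A] M) (pow_mem hπ j) ?_
      show π ^ j • u.baseChange B (θ x) = π ^ j • (0 : B ⊗[A] M)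
      rw [smul_zero, ← map_smul, ← map_smul, hj, map_zero, map_zero]
    let ψ : B →ₗ[A] B' := (IsScalarTower.toAlgHom A B B').toLinearMap
    let i : (Ideal.span {π} : Ideal B) →ₗ[A] B := (Ideal.span {π} : Ideal B).subtype.restrictScalars A
    have hex : Function.Exact i ψ := fun b => by
      show Ideal.Quotient.mk _ b = 0 ↔ _
      rw [Ideal.Quotient.eq_zero_iff_mem]
      exact ⟨fun h => ⟨⟨b, h⟩, rfl⟩, fun ⟨w, hw⟩ => hw ▸ w.2⟩
    have h1 : ψ.rTensor (Nq N q) (θ x) = 0 := hB' (by rw [lTensor_rTensor_comm, hu, map_zero, map_zero])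
    obtain ⟨w, hw⟩ := ((rTensor_exact (Nq N q) hex Ideal.Quotient.mk_surjective) (θ x)).1 h1
    obtain ⟨y, hy⟩ : ∃ y : F, i.rTensor (Nq N q) w = π • y := by
      clear hw
      induction w using TensorProduct.induction_on with
      | zero => exact ⟨0, by simp⟩
      | tmul c y =>
        obtain ⟨d, hd⟩ := Ideal.mem_span_singleton'.1 c.2
        exact ⟨d ⊗ₜ y, by rw [TensorProduct.smul_tmul', smul_eq_mul, mul_comm, hd]; rfl⟩
      | add a b ha hb =>
        obtain ⟨y, hy⟩ := ha
        obtain ⟨y', hy'⟩ := hb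
        exact ⟨y + y', by rw [map_add, hy, hy', smul_add]⟩
    have hxy : x = π • θ.symm y := θ.injective (by rw [map_smul, LinearEquiv.apply_symm_apply, ← hy, hw])
    exact ⟨θ.symm y, (mem_powTors Sl π).2 ⟨j + 1, by rw [pow_succ, mul_smul, ← hxy, hj]⟩, hxy⟩
  -- flatness of the quotient
  haveI := flat_baseChange_local N q C
  have haway : Module.Flat C (C ⊗[B] L) :=
    Module.Flat.of_linearEquiv ((AlgebraTensorModule.congr (LinearEquiv.refl C C) θ).trans eC')
  haveI : Module.Flat B' (B' ⊗[A] M) := Module.Flat.baseChange ..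
  haveI : Module.Flat B' (B' ⊗[A] Nq N q) := flat_of_good (u := u.baseChange B')
    fun X _ _ => good_baseChange N q u B' (fun Y _ _ hY => hs Y fun a ha y => hY a (hkerB' a ha) y) X
  have hquot : Module.Flat B' (B' ⊗[B] L) := Module.Flat.of_linearEquiv
    ((AlgebraTensorModule.congr (LinearEquiv.refl B' B') θ).trans
      (AlgebraTensorModule.cancelBaseChange A B B' B' (Nq N q)))
  have hπQ : algebraMap B (Poly n B) π ∈ Q := by
    have h1 : algebraMap A (Poly n A) s ∈ q := by
      rw [← Ideal.mem_comap, hqm]; exact hsm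
    have h2 : μ (algebraMap A (Poly n A) s) = algebraMap B (Poly n B) π := MvPolynomial.map_C _ _
    rw [← h2]
    exact Ideal.mem_map_of_mem μ h1
  have hΓ : Γ = ⊥ := torsion_eq_zero Q (LocalizedModule.mkLinearMap Q.primeCompl (NC A n N B)) π hπ hπQ
    haway hquot hdiv
  have hzΓ : θ.symm z ∈ Γ := (mem_powTors Sl π).2 ⟨k, by rw [← map_smul, hk, map_zero]⟩
  rw [hΓ, Submodule.mem_bot] at hzΓ
  exact θ.symm.map_eq_zero_iff.1 hzΓ

end GrothLib.RG6.InjMod
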